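import Cfsg.Agent.Lib.FischerPair.M23Frame.Nodes
import Cfsg.Agent.Lib.ThreeTransp.M23Centralizer
import Cfsg.Agent.Lib.Fi23P.Perm

/-!
# Groups of type `M(23)` are the presented Fischer group
-/

set_option autoImplicit false

namespace CfsgLib.M23

open Cfsg.Spor
open CfsgLib.ThreeTransp

variable {G : Type*} [Group G] [Finite G] {D : Set G}

/-- A group of type `M(23)` is the presented Fischer group, its class being that of the first generator. -/
theorem exists_fi23_iso (S : Setup D) : ∃ e : Cfsg.Spor.Fi23 ≃* G,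
    e '' conjugatesOf (PresentedGroup.of Fi23.Gen.a) = D := by
  obtain ⟨val, N⟩ := exists_nodes S
  haveI := Fi23P.card_fi.1
  haveI := Fi23P.simple
  let f : Cfsg.Spor.Fi23 →* G := PresentedGroup.toGroup (N.relators S.tt)
  have hfx : ∀ x, f (PresentedGroup.of x) = val x := fun x => PresentedGroup.toGroup.of _
  have hker : f.ker = ⊥ := by
    refine (IsSimpleGroup.eq_bot_or_eq_top_of_normal f.ker f.normal_ker).resolve_right fun h => ?_
    refine N.joined .a .b rfl ?_
    rw [← hfx, ← hfx, show f (PresentedGroup.of Fi23.Gen.a) = 1 from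
      MonoidHom.mem_ker.1 (h ▸ Subgroup.mem_top _)]
    exact Commute.one_left _
  have hinj : Function.Injective f := (MonoidHom.ker_eq_bot_iff f).1 hker
  have hbij : Function.Bijective f := (Nat.bijective_iff_injective_and_card f).2 ⟨hinj, by
    rw [Fi23P.card_fi.2, card_eq S]; norm_num⟩
  refine ⟨MulEquiv.ofBijective f hbij, Set.ext fun y => ⟨?_, fun hy => ?_⟩⟩
  · rintro ⟨x, hx, rfl⟩
    obtain ⟨k, rfl⟩ := isConj_iff.1 hx
    show f (k * PresentedGroup.of Fi23.Gen.a * k⁻¹) ∈ D
    rw [map_mul, map_mul, map_inv, hfx]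
    exact S.tt.conj _ _ (N.mem _)
  · obtain ⟨k, hk⟩ := S.cls (N.mem .a) hy
    obtain ⟨k', rfl⟩ := hbij.2 k
    refine ⟨k' * PresentedGroup.of Fi23.Gen.a * k'⁻¹, isConj_iff.2 ⟨k', rfl⟩, ?_⟩
    show f _ = y
    rw [map_mul, map_mul, map_inv, hfx, hk]

end CfsgLib.M23
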