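import Cfsg.Agent.Lib.FischerPair.M23Frame.Seven

/-!
# Vectors joined to the first configuration, and signs for the second
-/

set_option autoImplicit false
set_option maxRecDepth 100000

namespace CfsgLib.FischerPair

open Cfsg CfsgLib.Classical CfsgLib.SporMisc
open Matrix

local notation "V7" => Fin 7 → ZMod 3
local notation "M7" => Matrix (Fin 7) (Fin 7) (ZMod 3)

/-- The inner product of two vectors orthogonal to the fourth, sixth and seventh of the configuration. -/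
def sevenIp (p q s t p' q' s' t' : ZMod 3) : ZMod 3 :=
  2 * p * p' + 2 * q * s' + q * t' + 2 * s * q' + s * s' + 2 * s * t' + t * q' + 2 * t * s' + 2 * t * t'

theorem sevenIp_eq (p q s t p' q' s' t' : ZMod 3) :
    ![p, q, s, 0, t, 0, 0] ⬝ᵥ sevenInv *ᵥ ![p', q', s', 0, t', 0, 0] = sevenIp p q s t p' q' s' t' := by
  simp [dotProduct, mulVec, Fin.sum_univ_succ, sevenInv, sevenIp]
  ring

theorem sevenIp_forced : ∀ p q s t p' q' s' t' : ZMod 3, p * q * p' * q' ≠ 0 →
    sevenIp p q s t p q s t = 2 ∧ sevenIp p' q' s' t' p' q' s' t' = 2 ∧ sevenIp p q s t p' q' s' t' = 0 →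
    ((t = 0 ↔ t' = 0) ∧ s ≠ 0 → s' = 0) ∧ ((s = 0 ↔ s' = 0) ∧ t ≠ 0 → t' = 0) := by
  decide +kernel

variable {Q : QuadraticForm (ZMod 3) V7} {c : ZMod 3}

/-- Two orthogonal vectors joined to the first two of the configuration and to neither the fourth, sixth nor
seventh cannot both be joined to the third, or both to the fifth. -/
theorem seven_orth (hc : c ≠ 0) (hdet : polarGramDet (⇑Q) = -c) (v : Fin 7 → V7)
    (hn : ∀ i, Q (v i) = c) (hpat : ∀ i j, i ≠ j → (inp Q c (v i) (v j) = 0 ↔ sevenEdge i j = false))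
    {w w' : V7} (hw : Q w = c) (hw' : Q w' = c) (horth : inp Q c w w' = 0)
    (h0 : inp Q c (v 0) w ≠ 0) (h1 : inp Q c (v 1) w ≠ 0) (h3 : inp Q c (v 3) w = 0)
    (h5 : inp Q c (v 5) w = 0) (h6 : inp Q c (v 6) w = 0)
    (h0' : inp Q c (v 0) w' ≠ 0) (h1' : inp Q c (v 1) w' ≠ 0) (h3' : inp Q c (v 3) w' = 0)
    (h5' : inp Q c (v 5) w' = 0) (h6' : inp Q c (v 6) w' = 0) :
    ((inp Q c (v 4) w = 0 ↔ inp Q c (v 4) w' = 0) ∧ inp Q c (v 2) w ≠ 0 → inp Q c (v 2) w' = 0) ∧
      ((inp Q c (v 2) w = 0 ↔ inp Q c (v 2) w' = 0) ∧ inp Q c (v 4) w ≠ 0 → inp Q c (v 4) w' = 0) := by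
  obtain ⟨s, hs, hG⟩ := exists_seven_signs hc hdet v hn hpat
  set u : Fin 7 → V7 := fun i => s i • v i with hu
  have hz : ∀ i x, inp Q c (u i) x = s i * inp Q c (v i) x := fun i x => by
    have := inp_smul Q c (s i) 1 (v i) x
    rwa [one_smul, mul_one] at this
  have hrow : ∀ x : V7, inp Q c (v 3) x = 0 → inp Q c (v 5) x = 0 → inp Q c (v 6) x = 0 →
      (fun k => inp Q c (u k) x) = ![inp Q c (u 0) x, inp Q c (u 1) x, inp Q c (u 2) x, 0, inp Q c (u 4) x, 0, 0] := by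
    intro x a b e
    funext k
    fin_cases k <;> simp [hz, a, b, e]
  have hip : ∀ x y : V7, inp Q c (v 3) x = 0 → inp Q c (v 5) x = 0 → inp Q c (v 6) x = 0 →
      inp Q c (v 3) y = 0 → inp Q c (v 5) y = 0 → inp Q c (v 6) y = 0 →
      inp Q c x y = sevenIp (inp Q c (u 0) x) (inp Q c (u 1) x) (inp Q c (u 2) x) (inp Q c (u 4) x)
        (inp Q c (u 0) y) (inp Q c (u 1) y) (inp Q c (u 2) y) (inp Q c (u 4) y) := by
    intro x y a b e a' b' e'
    rw [inp_eq Q c u (sevenGram 2) hG hc hdet sevenInv_mul x y, hrow x a b e, hrow y a' b' e', sevenIp_eq]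
  have key := sevenIp_forced (inp Q c (u 0) w) (inp Q c (u 1) w) (inp Q c (u 2) w) (inp Q c (u 4) w)
    (inp Q c (u 0) w') (inp Q c (u 1) w') (inp Q c (u 2) w') (inp Q c (u 4) w')
    (by simp only [hz]; exact mul_ne_zero (mul_ne_zero (mul_ne_zero (mul_ne_zero (hs 0) h0) (mul_ne_zero (hs 1) h1))
      (mul_ne_zero (hs 0) h0')) (mul_ne_zero (hs 1) h1'))
    ⟨(hip w w h3 h5 h6 h3 h5 h6).symm.trans (inp_self Q c hc hw),
      (hip w' w' h3' h5' h6' h3' h5' h6').symm.trans (inp_self Q c hc hw'),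
      (hip w w' h3 h5 h6 h3' h5' h6').symm.trans horth⟩
  have hzz : ∀ i x, inp Q c (u i) x = 0 ↔ inp Q c (v i) x = 0 := fun i x => by
    rw [hz]; exact ⟨fun h => (mul_eq_zero.1 h).resolve_left (hs i), fun h => by rw [h, mul_zero]⟩
  simp only [ne_eq, hzz] at key
  exact key

/-- The inner products of a family with the second pattern of orthogonality. -/
def e7Pat (x y z w q p : ZMod 3) : M7 :=
  !![2, x, 0, 0, 0, 0, 0; x, 2, y, 0, 0, 0, 0; 0, y, 2, z, 0, 0, 0; 0, 0, z, 2, w, q, 0;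
     0, 0, 0, w, 2, 0, 0; 0, 0, 0, q, 0, 2, p; 0, 0, 0, 0, 0, p, 2]

/-- The signs for the second configuration. -/
def e7Sign (x y z w q p : ZMod 3) : Fin 7 → ZMod 3 := ![-z * y * x, z * y, -z, 1, -w, -q, q * p]

theorem e7Pat_norm : ∀ x y z w q p : ZMod 3, x * y * z * w * q * p ≠ 0 →
    (∀ i, e7Sign x y z w q p i ≠ 0) ∧
    ∀ k : Fin 7 × Fin 7, e7Sign x y z w q p k.1 * e7Sign x y z w q p k.2 * e7Pat x y z w q p k.1 k.2 =
      e7Gram k.1 k.2 := by
  decide +kernel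

/-- Signs making a family with the second pattern of orthogonality standard. -/
theorem exists_e7_signs (hc : c ≠ 0) (v : Fin 7 → V7)
    (hn : ∀ i, Q (v i) = c) (hpat : ∀ i j, i ≠ j → (inp Q c (v i) (v j) = 0 ↔ e7Edge i j = false)) :
    ∃ s : Fin 7 → ZMod 3, (∀ i, s i ≠ 0) ∧
      ∀ i j, inp Q c (s i • v i) (s j • v j) = e7Gram i j := by
  set t : Fin 7 → Fin 7 → ZMod 3 := fun i j => inp Q c (v i) (v j) with ht
  have t2 : ∀ i, t i i = 2 := fun i => inp_self Q c hc (hn i)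
  have tz : ∀ i j, i ≠ j → e7Edge i j = false → t i j = 0 := fun i j h h' => (hpat i j h).2 h'
  have tn : ∀ i j, i ≠ j → e7Edge i j = true → t i j ≠ 0 := fun i j h h' e => by
    rw [(hpat i j h).1 e] at h'; exact Bool.false_ne_true h'
  have tc : ∀ i j, t i j = t j i := fun i j => inp_comm Q c _ _
  have hT : ∀ i j, t i j = e7Pat (t 0 1) (t 1 2) (t 2 3) (t 3 4) (t 3 5) (t 5 6) i j := by
    intro i j
    fin_cases i <;> fin_cases j <;>
      first
        | exact t2 _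
        | exact tz _ _ (by decide) (by decide)
        | exact rfl
        | exact tc _ _
  obtain ⟨hs, h⟩ := e7Pat_norm _ _ _ _ _ _ (mul_ne_zero (mul_ne_zero (mul_ne_zero (mul_ne_zero (mul_ne_zero
    (tn 0 1 (by decide) (by decide)) (tn 1 2 (by decide) (by decide))) (tn 2 3 (by decide) (by decide)))
    (tn 3 4 (by decide) (by decide))) (tn 3 5 (by decide) (by decide))) (tn 5 6 (by decide) (by decide)))
  refine ⟨_, hs, fun i j => ?_⟩
  rw [inp_smul]
  exact (congrArg _ (hT i j)).trans (h (i, j))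

end CfsgLib.FischerPair
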