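import Cfsg.Agent.Lib.FischerPair.M23Frame.Radical
import Cfsg.Agent.Lib.FischerPair.M23Frame.SevenCalc

/-!
# Groups of type `M(23)`: seven common neighbours forming the diagram of type `E₇`
-/

set_option autoImplicit false

namespace CfsgLib.M23

open CfsgLib.ThreeTransp CfsgLib.SporMisc CfsgLib.ThreeTransp.Factor CfsgLib.FischerPair

variable {G : Type*} [Group G] [Finite G] {D : Set G} {d₀ j g : G}

omit [Finite G] in
theorem inp_zero_iff (M : RefModel D d₀ j) {x y : G} (hx : x ∈ common D d₀ j) (hy : y ∈ common D d₀ j)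
    (hne : x ≠ y) : inp M.Q M.c (M.vec x) (M.vec y) = 0 ↔ Commute x y := by
  rw [M.comm hx hy, or_iff_right hne, inp, mul_eq_zero, or_iff_right (inv_ne_zero M.hc)]

omit [Finite G] in
theorem inp_zero_of_link (M : RefModel D d₀ j) {x y : G} (hx : x ∈ common D d₀ j) (hy : y ∈ common D d₀ j)
    (h : y ∈ link D x) : inp M.Q M.c (M.vec x) (M.vec y) = 0 :=
  (inp_zero_iff M hx hy h.2.1.symm).2 h.2.2

omit [Finite G] in
theorem inp_ne_zero_of_nc (M : RefModel D d₀ j) {x y : G} (hx : x ∈ common D d₀ j) (hy : y ∈ common D d₀ j)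
    (h : ¬ Commute x y) : inp M.Q M.c (M.vec x) (M.vec y) ≠ 0 :=
  fun e => h ((inp_zero_iff M hx hy fun e' => h (e' ▸ Commute.refl _)).1 e)

/-- Seven members below a corner in the first configuration. -/
structure Seven (K : Corner D d₀ j g) (a c d e h i v : G) : Prop where
  ma : a ∈ midSet D d₀ j g
  mc : c ∈ midSet D d₀ j g
  md : d ∈ midSet D d₀ j g
  me : e ∈ midSet D d₀ j g
  mh : h ∈ midSet D d₀ j g
  mi : i ∈ midSet D d₀ j g
  mv : v ∈ midSet D d₀ j g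
  aec : K.IsTriple a e c
  iev : K.IsTriple i e v
  ha : h ∈ link D a
  he : h ∈ link D e
  hc : h ∈ link D c
  ia : i ∈ link D a
  ic : i ∈ link D c
  da : d ∈ link D a
  di : d ∈ link D i
  va : v ∈ link D a
  vc : v ∈ link D c
  nhi : ¬ Commute h i
  ndc : ¬ Commute d c
  nde : ¬ Commute d e
  ndh : ¬ Commute d h
  ndv : ¬ Commute d v
  nhv : ¬ Commute h v

namespace Corner

theorem exists_seven (K : Corner D d₀ j g) {a e : G} (ma : a ∈ midSet D d₀ j g) (me : e ∈ midSet D d₀ j g)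
    (hea : e ∈ link D a) : ∃ c d h i v, Seven K a c d e h i v := by
  obtain ⟨c, Tc⟩ := K.exists_triple ma me hea
  have hcW := Tc.2.2.2.1
  have hcall := Tc.2.2.2.2
  have mc : c ∈ midSet D d₀ j g := hcW.1.1
  obtain ⟨h, hhW, hhc⟩ := K.triple_nontriv Tc
  obtain ⟨i, hiW, hic, hhi⟩ := K.triple_exists Tc hhW hhc
  have mh : h ∈ midSet D d₀ j g := hhW.1.1
  have mi : i ∈ midSet D d₀ j g := hiW.1.1
  have lic : i ∈ link D c := ⟨mi.1.1.1, hic, (hcall i hiW).symm⟩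
  have lhc : h ∈ link D c := ⟨mh.1.1.1, hhc, (hcall h hhW).symm⟩
  have lia : i ∈ link D a := hiW.1.2
  -- the pair `a`, `i`
  obtain ⟨r, Tr⟩ := K.exists_triple ma mi lia
  have hcWi : c ∈ pairSet D d₀ j g a i := ⟨⟨mc, hcW.1.2⟩, link_swap mc.1.1.1 lic⟩
  have heWi : e ∈ pairSet D d₀ j g a i := ⟨⟨me, hea⟩, link_swap me.1.1.1 hiW.2⟩
  have hcr : c ≠ r := by
    intro he'
    -- then `i` commutes with all of the set of the pair `a`, `c`
    have T' := K.triple_rot (he'.symm ▸ Tr : K.IsTriple a i c)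
    exact hhi (T'.2.2.2.2 h ⟨⟨mh, hhW.1.2⟩, lhc⟩)
  have her : e ≠ r := by
    intro he'
    have T' := K.triple_rot (he'.symm ▸ Tr : K.IsTriple a i e)
    exact hhi (T'.2.2.2.2 h ⟨⟨mh, hhW.1.2⟩, hhW.2⟩)
  obtain ⟨d₁, hd₁W, -, hcd₁⟩ := K.triple_exists Tr hcWi hcr
  have hed₁ : ¬ Commute e d₁ := fun hc' =>
    hcd₁ (K.triple_line Tr heWi hcWi hd₁W her hcW.2.2.2 hc'.symm).symm
  -- make `d` move `h`
  obtain ⟨d, md, lda, ldi, hcd, hed, hdh⟩ : ∃ d, d ∈ midSet D d₀ j g ∧ d ∈ link D a ∧ d ∈ link D i ∧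
      ¬ Commute c d ∧ ¬ Commute e d ∧ ¬ Commute d h := by
    by_cases hd₁h : Commute d₁ h
    swap
    · exact ⟨d₁, hd₁W.1.1, hd₁W.1.2, hd₁W.2, hcd₁, hed₁, hd₁h⟩
    obtain ⟨d, T⟩ := K.exists_triple mi hd₁W.1.1 hd₁W.2
    have md : d ∈ midSet D d₀ j g := T.2.2.2.1.1.1
    have back : ∀ {z : G}, z ∈ midSet D d₀ j g → Commute z i → Commute z d → Commute z d₁ :=
      fun hz h1 h2 => K.triple_comm (K.triple_rot T) hz h1 h2
    have had : Commute a d := K.triple_comm T ma lia.2.2 hd₁W.1.2.2.2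
    refine ⟨d, md, ⟨md.1.1.1, fun e' => ?_, had⟩, T.2.2.2.1.1.2,
      fun hc' => hcd₁ (back mc lic.2.2 hc'), fun hc' => hed₁ (back me hiW.2.2.2 hc'), fun hc' => ?_⟩
    · subst e'
      exact hcd₁ (back mc lic.2.2 hcW.1.2.2.2.symm)
    · have T' : K.IsTriple d₁ d i := K.triple_rot (K.triple_swap T)
      exact hhi (K.triple_comm T' mh hd₁h.symm hc'.symm)
  obtain ⟨v, Tv⟩ := K.exists_triple mi me (link_swap me.1.1.1 hiW.2)
  have mv : v ∈ midSet D d₀ j g := Tv.2.2.2.1.1.1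
  have hva : Commute a v := K.triple_comm Tv ma lia.2.2 hea.2.2
  have hvc : Commute c v := K.triple_comm Tv mc lic.2.2 hcW.2.2.2.symm
  have ndv : ¬ Commute d v := fun hc' =>
    hed (K.triple_comm (K.triple_rot Tv) md ldi.2.2.symm hc').symm
  have nhv : ¬ Commute h v := fun hc' =>
    hhi (K.triple_comm (K.triple_rot (K.triple_swap Tv)) mh hhW.2.2.2.symm hc')
  exact ⟨c, d, h, i, v, ⟨ma, mc, md, me, mh, mi, mv, Tc, Tv, hhW.1.2, hhW.2, lhc, lia, lic, lda, ldi,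
    ⟨mv.1.1.1, fun e' => nhv (e' ▸ hhW.1.2.2.2.symm), hva⟩,
    ⟨mv.1.1.1, fun e' => nhv (e' ▸ lhc.2.2.symm), hvc⟩, hhi, fun x => hcd x.symm, fun x => hed x.symm, hdh, ndv, nhv⟩⟩

end Corner

namespace Seven

variable {K : Corner D d₀ j g} {a c d e h i v : G} (S : Seven K a c d e h i v)
include S

theorem pattern (M : RefModel D d₀ j) : ∀ k l : Fin 7, k ≠ l →
    (inp M.Q M.c (M.vec (![a, c, d, e, h, i, v] k)) (M.vec (![a, c, d, e, h, i, v] l)) = 0 ↔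
      sevenEdge k l = false) := by
  have hw : ∀ k : Fin 7, ![a, c, d, e, h, i, v] k ∈ common D d₀ j :=
    Fin.forall_fin_succ.2 ⟨S.ma.1, Fin.forall_fin_succ.2 ⟨S.mc.1, Fin.forall_fin_succ.2 ⟨S.md.1,
      Fin.forall_fin_succ.2 ⟨S.me.1, Fin.forall_fin_succ.2 ⟨S.mh.1, Fin.forall_fin_succ.2 ⟨S.mi.1,
      Fin.forall_fin_succ.2 ⟨S.mv.1, fun k => k.elim0⟩⟩⟩⟩⟩⟩⟩
  have up : ∀ k l : Fin 7, k < l → (sevenEdge k l = false → ![a, c, d, e, h, i, v] l ∈ link D (![a, c, d, e, h, i, v] k)) ∧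
      (sevenEdge k l = true → ¬ Commute (![a, c, d, e, h, i, v] k) (![a, c, d, e, h, i, v] l)) := by
    intro k l hkl
    refine ⟨fun hf => ?_, fun ht => ?_⟩ <;> fin_cases k <;> fin_cases l <;>
      first
        | exact absurd hkl (by decide)
        | exact absurd hf (by decide)
        | exact absurd ht (by decide)
        | exact S.ha | exact S.ia | exact S.ic | exact S.hc | exact S.va | exact S.vc | exact S.da
        | exact S.aec.2.2.1 | exact S.aec.2.2.2.1.1.2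
        | exact link_swap S.mc.1.1.1 S.aec.2.2.2.1.2
        | exact (link_swap S.me.1.1.1 S.aec.2.2.2.1.2)
        | exact S.he | exact S.iev.2.2.2.1.2 | exact S.iev.2.2.2.1.1.2
        | exact (link_swap S.mi.1.1.1 S.iev.2.2.1)
        | exact (link_swap S.mi.1.1.1 S.di)
        | exact S.nhi | exact S.ndh | exact S.ndv | exact S.nde | exact S.nhv
        | exact fun x => S.ndc x.symm
  intro k l hkl
  have key : ∀ k l : Fin 7, k < l → (inp M.Q M.c (M.vec (![a, c, d, e, h, i, v] k))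
      (M.vec (![a, c, d, e, h, i, v] l)) = 0 ↔ sevenEdge k l = false) := by
    intro k l hkl
    cases he : sevenEdge k l
    · exact iff_of_true (inp_zero_of_link M (hw k) (hw l) ((up k l hkl).1 he)) rfl
    · exact iff_of_false (inp_ne_zero_of_nc M (hw k) (hw l) ((up k l hkl).2 he)) (by simp)
  rcases lt_or_gt_of_ne hkl with hlt | hlt
  · exact key k l hlt
  · rw [inp_comm, key l k hlt, (show ∀ k l : Fin 7, sevenEdge k l = sevenEdge l k by decide) k l]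

/-- What is required of the member completing the diagram, but for two conditions. -/
def Pre (_ : Seven K a c d e h i v) (b : G) : Prop :=
  b ∈ midSet D d₀ j g ∧ b ∈ link D i ∧ b ∈ link D e ∧ b ∈ link D v ∧ ¬ Commute a b ∧ ¬ Commute c b

theorem forced (M : RefModel D d₀ j) {b b' : G} (hb : S.Pre b) (hb' : S.Pre b') (hbb : b' ∈ link D b) :
    ((Commute h b ↔ Commute h b') → ¬ Commute d b → Commute d b') ∧
      ((Commute d b ↔ Commute d b') → ¬ Commute h b → Commute h b') := by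
  obtain ⟨mb, lib, leb, lvb, nab, ncb⟩ := hb
  obtain ⟨mb', lib', leb', lvb', nab', ncb'⟩ := hb'
  have hd : d ≠ b := fun e' => nab (e' ▸ S.da.2.2)
  have hd' : d ≠ b' := fun e' => nab' (e' ▸ S.da.2.2)
  have hh : h ≠ b := fun e' => nab (e' ▸ S.ha.2.2)
  have hh' : h ≠ b' := fun e' => nab' (e' ▸ S.ha.2.2)
  obtain ⟨h1, h2⟩ := seven_orth M.hc M.hdet (fun k => M.vec (![a, c, d, e, h, i, v] k))
    (Fin.forall_fin_succ.2 ⟨M.norm S.ma.1, Fin.forall_fin_succ.2 ⟨M.norm S.mc.1, Fin.forall_fin_succ.2 ⟨M.norm S.md.1,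
      Fin.forall_fin_succ.2 ⟨M.norm S.me.1, Fin.forall_fin_succ.2 ⟨M.norm S.mh.1, Fin.forall_fin_succ.2 ⟨M.norm S.mi.1,
      Fin.forall_fin_succ.2 ⟨M.norm S.mv.1, fun k => k.elim0⟩⟩⟩⟩⟩⟩⟩)
    (S.pattern M) (M.norm mb.1) (M.norm mb'.1) (inp_zero_of_link M mb.1 mb'.1 hbb)
    (inp_ne_zero_of_nc M S.ma.1 mb.1 nab) (inp_ne_zero_of_nc M S.mc.1 mb.1 ncb)
    (inp_zero_of_link M S.me.1 mb.1 leb) (inp_zero_of_link M S.mi.1 mb.1 lib) (inp_zero_of_link M S.mv.1 mb.1 lvb)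
    (inp_ne_zero_of_nc M S.ma.1 mb'.1 nab') (inp_ne_zero_of_nc M S.mc.1 mb'.1 ncb')
    (inp_zero_of_link M S.me.1 mb'.1 leb') (inp_zero_of_link M S.mi.1 mb'.1 lib')
    (inp_zero_of_link M S.mv.1 mb'.1 lvb')
  simp only [Matrix.cons_val, ne_eq, inp_zero_iff M S.md.1 mb.1 hd, inp_zero_iff M S.md.1 mb'.1 hd',
    inp_zero_iff M S.mh.1 mb.1 hh, inp_zero_iff M S.mh.1 mb'.1 hh'] at h1 h2
  exact ⟨fun x y => h1 ⟨x, y⟩, fun x y => h2 ⟨x, y⟩⟩

/-- Replacing a member by the third one of its triple with `x` keeps the requirements. -/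
theorem pre_third {b b' x : G} (hb : S.Pre b) (hx : x = i ∨ x = e) (T : K.IsTriple x b b') :
    S.Pre b' ∧ b' ∈ link D b := by
  obtain ⟨mb, lib, leb, lvb, nab, ncb⟩ := hb
  have hb' := T.2.2.2.1
  have hin : ∀ {z : G}, z ∈ midSet D d₀ j g → Commute z x → Commute z b → Commute z b' :=
    fun hz h1 h2 => K.triple_comm T hz h1 h2
  have hback : ∀ {z : G}, z ∈ midSet D d₀ j g → Commute z x → ¬ Commute z b → ¬ Commute z b' :=
    fun hz h1 h2 h3 => h2 (K.triple_comm (K.triple_rot T) hz h1 h3)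
  have hax : Commute a x := by rcases hx with rfl | rfl; exacts [S.ia.2.2, S.aec.2.2.1.2.2]
  have hcx : Commute c x := by
    rcases hx with rfl | rfl; exacts [S.ic.2.2, S.aec.2.2.2.1.2.2.2.symm]
  have hix : Commute i x := by rcases hx with rfl | rfl; exacts [Commute.refl _, S.iev.2.2.1.2.2]
  have hex' : Commute e x := by rcases hx with rfl | rfl; exacts [S.iev.2.2.1.2.2.symm, Commute.refl _]
  have hvx : Commute v x := by
    rcases hx with rfl | rfl; exacts [S.iev.2.2.2.1.1.2.2.2.symm, S.iev.2.2.2.1.2.2.2.symm]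
  have nab' := hback S.ma hax nab
  have mk : ∀ {z : G}, z ∈ midSet D d₀ j g → Commute z x → Commute z b → Commute a z → b' ∈ link D z :=
    fun hz h1 h2 h3 => ⟨hb'.1.1.1.1.1, fun e' => nab' (e' ▸ h3), hin hz h1 h2⟩
  exact ⟨⟨hb'.1.1, mk S.mi hix lib.2.2 S.ia.2.2, mk S.me hex' leb.2.2 S.aec.2.2.1.2.2,
    mk S.mv hvx lvb.2.2 S.va.2.2, nab', hback S.mc hcx ncb⟩, hb'.2⟩

theorem exists_b (M : RefModel D d₀ j) : ∃ b, S.Pre b ∧ Commute d b ∧ Commute h b := by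
  have haW : a ∈ pairSet D d₀ j g i e := ⟨⟨S.ma, link_swap S.ma.1.1.1 S.ia⟩, link_swap S.ma.1.1.1 S.aec.2.2.1⟩
  have hcW : c ∈ pairSet D d₀ j g i e := ⟨⟨S.mc, link_swap S.mc.1.1.1 S.ic⟩, S.aec.2.2.2.1.2⟩
  obtain ⟨b₀, hb₀, hb₀v, hab₀⟩ := K.triple_exists S.iev haW (fun e' => S.va.2.1 e'.symm)
  have hcb₀ : ¬ Commute c b₀ := fun hc' => hab₀
    (K.triple_line S.iev hcW haW hb₀ (fun e' => S.vc.2.1 e'.symm) S.aec.2.2.2.1.1.2.2.2.symm hc'.symm).symm
  have hpre : S.Pre b₀ := ⟨hb₀.1.1, hb₀.1.2, hb₀.2,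
    ⟨hb₀.1.1.1.1.1, hb₀v, (S.iev.2.2.2.2 b₀ hb₀).symm⟩, hab₀, hcb₀⟩
  -- make it commute with `d`
  obtain ⟨b₁, hb₁, hdb₁⟩ : ∃ b₁, S.Pre b₁ ∧ Commute d b₁ := by
    by_cases hdb : Commute d b₀
    · exact ⟨b₀, hpre, hdb⟩
    obtain ⟨b₁, T⟩ := K.exists_triple S.me hb₀.1.1 hb₀.2
    obtain ⟨hp, hl⟩ := S.pre_third hpre (Or.inr rfl) T
    refine ⟨b₁, hp, (S.forced M hpre hp hl).1 ⟨fun x => ?_, fun x => ?_⟩ hdb⟩
    · exact K.triple_comm T S.mh S.he.2.2.symm x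
    · exact K.triple_comm (K.triple_rot T) S.mh S.he.2.2.symm x
  by_cases hhb : Commute h b₁
  · exact ⟨b₁, hb₁, hdb₁, hhb⟩
  obtain ⟨b, T⟩ := K.exists_triple S.mi hb₁.1 hb₁.2.1
  obtain ⟨hp, hl⟩ := S.pre_third hb₁ (Or.inl rfl) T
  have hdb : Commute d b := K.triple_comm T S.md S.di.2.2.symm hdb₁
  exact ⟨b, hp, hdb, (S.forced M hb₁ hp hl).2 ⟨fun _ => hdb, fun _ => hdb₁⟩ hhb⟩

end Seven

end CfsgLib.M23
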