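import Cfsg.Agent.Lib.FischerPair.RefModel

/-!
# Seven vectors with given inner products in the space of a model of common neighbours
-/

set_option autoImplicit false

namespace CfsgLib.FischerPair

open Cfsg CfsgLib.Classical CfsgLib.Classical.SylowTwo CfsgLib.SporMisc
open Matrix

local notation "V7" => Fin 7 → ZMod 3
local notation "M7" => Matrix (Fin 7) (Fin 7) (ZMod 3)

variable (Q : QuadraticForm (ZMod 3) V7) (c : ZMod 3)

/-- The inner products, scaled by the norm. -/
abbrev inp (v w : V7) : ZMod 3 := c⁻¹ * QuadraticMap.polar Q v w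

theorem inp_comm (v w : V7) : inp Q c v w = inp Q c w v := by rw [inp, inp, qf_polar_comm]

theorem inp_smul (a b : ZMod 3) (v w : V7) : inp Q c (a • v) (b • w) = a * b * inp Q c v w := by
  rw [inp, inp, QuadraticMap.polar_smul_left, QuadraticMap.polar_smul_right, smul_eq_mul, smul_eq_mul]
  ring

theorem inp_self (hc : c ≠ 0) {v : V7} (hv : Q v = c) : inp Q c v v = 2 := by
  rw [inp, qf_polar_self, hv, mul_comm (2 : ZMod 3) c, ← mul_assoc, inv_mul_cancel₀ hc, one_mul]

theorem refAct_cons (v : V7) (l : List V7) (z : V7) :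
    refAct Q c (v :: l) z = refAct Q c l z - inp Q c (refAct Q c l z) v • v := rfl

/-- Rescaling the vectors does not change the product of reflections. -/
theorem refAct_smul {ι : Type*} (u w : ι → V7) : ∀ (l : List ι),
    (∀ i ∈ l, ∃ a : ZMod 3, a ≠ 0 ∧ u i = a • w i) → ∀ z, refAct Q c (l.map u) z = refAct Q c (l.map w) z := by
  intro l
  induction l with
  | nil => exact fun _ _ => rfl
  | cons i t ih =>
    intro h z
    obtain ⟨a, ha, hi⟩ := h i List.mem_cons_self
    rw [List.map_cons, List.map_cons, refAct_cons, refAct_cons,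
      ih (fun j hj => h j (List.mem_cons_of_mem _ hj)) z, hi]
    set y := refAct Q c (t.map w) z
    have e : inp Q c y (a • w i) = a * inp Q c y (w i) := by
      rw [inp, inp, QuadraticMap.polar_smul_right, smul_eq_mul]; ring
    rw [e, smul_smul, show a * inp Q c y (w i) * a = inp Q c y (w i) by
      rw [mul_comm a, mul_assoc, (show ∀ a : ZMod 3, a ≠ 0 → a * a = 1 by decide) a ha, mul_one]]

variable (u : Fin 7 → V7) (G : M7)

/-- The combination of the seven vectors. -/
def comb (x : Fin 7 → ZMod 3) : V7 := ∑ i, x i • u i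

theorem comb_single (k : Fin 7) : comb u (Pi.single k 1) = u k := by
  simp [comb, Pi.single_apply, ite_smul]

theorem comb_sub (x y : Fin 7 → ZMod 3) : comb u (x - y) = comb u x - comb u y := by
  simp [comb, sub_smul, Finset.sum_sub_distrib]

theorem comb_smul (t : ZMod 3) (x : Fin 7 → ZMod 3) : comb u (t • x) = t • comb u x := by
  simp [comb, smul_smul, Finset.smul_sum]

theorem comb_eq_mulVec (x : Fin 7 → ZMod 3) : comb u x = (Matrix.of fun i j => u j i) *ᵥ x := by
  ext k
  simp [comb, mulVec, dotProduct, mul_comm]

variable (hG : ∀ i j, inp Q c (u i) (u j) = G i j)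

include hG

theorem inp_comb_right (k : Fin 7) (x : Fin 7 → ZMod 3) : inp Q c (u k) (comb u x) = (G *ᵥ x) k := by
  rw [inp, qf_polar_comm, show QuadraticMap.polar Q (comb u x) (u k) = ∑ i, x i * QuadraticMap.polar Q (u i) (u k)
    from RefThree.pf_sum_left Q x u (u k), Finset.mul_sum, mulVec, dotProduct]
  exact Finset.sum_congr rfl fun i _ => by rw [← hG k i, inp, qf_polar_comm Q (u k)]; ring

theorem inp_comb (x y : Fin 7 → ZMod 3) : inp Q c (comb u x) (comb u y) = x ⬝ᵥ G *ᵥ y := by
  rw [inp, show QuadraticMap.polar Q (comb u x) (comb u y) = ∑ i, x i * QuadraticMap.polar Q (u i) (comb u y)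
    from RefThree.pf_sum_left Q x u _, Finset.mul_sum, dotProduct]
  exact Finset.sum_congr rfl fun i _ => by rw [← inp_comb_right Q c u G hG i y, inp]; ring

omit hG in
/-- The matrix of the reflection in the vector with coordinates `y`. -/
def refMat (y : Fin 7 → ZMod 3) : M7 := 1 - vecMulVec y (y ᵥ* G)

omit hG in
/-- The matrix of a product of reflections. -/
def refMats : List (Fin 7 → ZMod 3) → M7
  | [] => 1
  | y :: t => refMat G y * refMats t

omit hG in
theorem refMats_append : ∀ l m : List (Fin 7 → ZMod 3), refMats G (l ++ m) = refMats G l * refMats G m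
  | [], m => (one_mul _).symm
  | y :: t, m => by rw [List.cons_append, refMats, refMats, refMats_append t m, mul_assoc]

omit hG in
theorem refMats_power (l : List (Fin 7 → ZMod 3)) : ∀ n, refMats G (List.replicate n l).flatten = refMats G l ^ n
  | 0 => (pow_zero _).symm
  | n + 1 => by rw [List.replicate_succ, List.flatten_cons, refMats_append, refMats_power l n, pow_succ']

theorem refAct_comb : ∀ (ys : List (Fin 7 → ZMod 3)) (x : Fin 7 → ZMod 3),
    refAct Q c (ys.map (comb u)) (comb u x) = comb u (refMats G ys *ᵥ x)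
  | [], x => by rw [refMats, one_mulVec]; rfl
  | y :: t, x => by
    rw [List.map_cons, refAct_cons, refAct_comb t x, inp_comm, inp_comb Q c u G hG, refMats, ← mulVec_mulVec]
    set z := refMats G t *ᵥ x
    rw [refMat, sub_mulVec, one_mulVec, vecMulVec_mulVec, op_smul_eq_smul, comb_sub, comb_smul,
      ← dotProduct_mulVec]

variable (hQ : (QuadraticMap.polarBilin Q).Nondegenerate) (hc : c ≠ 0) (hdet : polarGramDet (⇑Q) = -c)
include hQ hc hdet

omit hQ in
theorem det_rel : -c * (Matrix.of fun i j => u j i : M7).det ^ 2 = c * G.det := by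
  set P : M7 := Matrix.of fun i j => u j i
  have e : P.transpose * polarGram Q * P = c • G := by
    ext i j
    rw [Matrix.smul_apply, ← hG i j, smul_eq_mul, inp, ← mul_assoc, mul_inv_cancel₀ hc, one_mul,
      polarGram_form, show (P.transpose * polarGram Q * P) i j = (P.transpose * polarGram Q).mulVec (u j) i from rfl,
      ← mulVec_mulVec]
    rfl
  have h := congrArg Matrix.det e
  rw [det_mul, det_mul, det_transpose, det_smul, Fintype.card_fin,
    show (polarGram Q).det = -c from hdet] at h
  have h7 : c ^ 7 = c := by revert hc; clear * -; revert c; decide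
  rw [h7] at h
  linear_combination h

omit hQ in
theorem det_ne_one : G.det ≠ 1 := by
  intro h
  have := det_rel Q c u G hG hc hdet
  rw [h, mul_one] at this
  revert this hc
  clear * -
  generalize (Matrix.of fun i j => u j i : M7).det = p
  revert p c
  decide

variable {Gi : M7} (hGi : Gi * G = 1)
include hGi

omit hQ in
/-- Coordinates are recovered from inner products. -/
theorem comb_coords (w : V7) : comb u (Gi *ᵥ fun k => inp Q c (u k) w) = w := by
  set P : M7 := Matrix.of fun i j => u j i with hP
  have hdG : G.det ≠ 0 := fun h => by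
    have := congrArg Matrix.det hGi
    rw [det_mul, h, mul_zero, det_one] at this
    exact zero_ne_one this
  have hdP : P.det ≠ 0 := fun h => by
    have := det_rel Q c u G hG hc hdet
    rw [← hP, h] at this
    exact mul_ne_zero hc hdG (by linear_combination -this)
  have hne : (P.transpose * polarGram Q).det ≠ 0 := by
    rw [det_mul, det_transpose, show (polarGram Q).det = -c from hdet]
    exact mul_ne_zero hdP (neg_ne_zero.2 hc)
  have hcoord : ∀ z, (P.transpose * polarGram Q) *ᵥ z = fun k => QuadraticMap.polar Q (u k) z := by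
    intro z
    funext k
    rw [polarGram_form, ← mulVec_mulVec]
    rfl
  refine sub_eq_zero.1 (eq_zero_of_mulVec_eq_zero hne ?_)
  rw [hcoord]
  funext k
  have h1 := inp_comb_right Q c u G hG k (Gi *ᵥ fun k => inp Q c (u k) w)
  rw [mulVec_mulVec, mul_eq_one_comm.1 hGi, one_mulVec] at h1
  rw [QuadraticMap.polar_sub_right, Pi.zero_apply, sub_eq_zero]
  exact mul_left_cancel₀ (inv_ne_zero hc) h1

omit hQ in
theorem inp_eq (v w : V7) :
    inp Q c v w = (fun k => inp Q c (u k) v) ⬝ᵥ Gi *ᵥ fun k => inp Q c (u k) w := by
  conv_lhs => rw [← comb_coords Q c u G hG hc hdet hGi w]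
  rw [inp_comm Q c v, inp, show QuadraticMap.polar Q (comb u (Gi *ᵥ fun k => inp Q c (u k) w)) v =
    ∑ i, (Gi *ᵥ fun k => inp Q c (u k) w) i * QuadraticMap.polar Q (u i) v from RefThree.pf_sum_left Q _ u v,
    Finset.mul_sum, dotProduct]
  exact Finset.sum_congr rfl fun i _ => by simp only [inp]; ring

omit hQ in
/-- A product of reflections given by coordinates acts as its matrix. -/
theorem refAct_eq (ys : List (Fin 7 → ZMod 3)) (s : ZMod 3) (h : refMats G ys = s • 1) (z : V7) :
    refAct Q c (ys.map (comb u)) z = s • z := by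
  rw [← comb_coords Q c u G hG hc hdet hGi z, refAct_comb Q c u G hG, h, smul_mulVec, one_mulVec, comb_smul]

end CfsgLib.FischerPair
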