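import Cfsg.Agent.Lib.FischerPair.M23Frame.Seven

/-!
# The two words of the presentation in the space of the second configuration

Generated: each matrix is the product of the previous one with one factor, checked by evaluation.
-/

set_option autoImplicit false
set_option maxRecDepth 100000

namespace CfsgLib.FischerPair

open Matrix

local notation "M7" => Matrix (Fin 7) (Fin 7) (ZMod 3)

/-- The coordinates of the eight nodes `a b c d e h i f`. -/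
def nodeVec : Fin 8 → Fin 7 → ZMod 3 :=
  ![![1, 0, 0, 0, 0, 0, 0],
    ![0, 1, 0, 0, 0, 0, 0],
    ![0, 0, 1, 0, 0, 0, 0],
    ![0, 0, 0, 1, 0, 0, 0],
    ![0, 0, 0, 0, 1, 0, 0],
    ![0, 0, 0, 0, 0, 1, 0],
    ![0, 0, 0, 0, 0, 0, 1],
    ![0, 0, 0, 0, 1, 2, 1]]

/-- The word as a list of nodes. -/
def spiderNodes : List (Fin 8) := [3, 2, 1, 3, 4, 7, 3, 5, 6]

theorem spider_1 : refMats e7Gram ([6].map nodeVec : List _) =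
    (!![1, 0, 0, 0, 0, 0, 0; 0, 1, 0, 0, 0, 0, 0; 0, 0, 1, 0, 0, 0, 0; 0, 0, 0, 1, 0, 0, 0; 0, 0, 0, 0, 1, 0, 0; 0, 0, 0, 0, 0, 1, 0; 0, 0, 0, 0, 0, 1, 2] : M7) := by
  rw [List.map_cons, refMats, List.map_nil, refMats]
  decide +kernel

theorem spider_2 : refMats e7Gram ([5, 6].map nodeVec : List _) =
    (!![1, 0, 0, 0, 0, 0, 0; 0, 1, 0, 0, 0, 0, 0; 0, 0, 1, 0, 0, 0, 0; 0, 0, 0, 1, 0, 0, 0; 0, 0, 0, 0, 1, 0, 0; 0, 0, 0, 1, 0, 0, 2; 0, 0, 0, 0, 0, 1, 2] : M7) := by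
  rw [List.map_cons, refMats, spider_1]
  decide +kernel

theorem spider_3 : refMats e7Gram ([3, 5, 6].map nodeVec : List _) =
    (!![1, 0, 0, 0, 0, 0, 0; 0, 1, 0, 0, 0, 0, 0; 0, 0, 1, 0, 0, 0, 0; 0, 0, 1, 0, 1, 0, 2; 0, 0, 0, 0, 1, 0, 0; 0, 0, 0, 1, 0, 0, 2; 0, 0, 0, 0, 0, 1, 2] : M7) := by
  rw [List.map_cons, refMats, spider_2]
  decide +kernel

theorem spider_4 : refMats e7Gram ([7, 3, 5, 6].map nodeVec : List _) =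
    (!![1, 0, 0, 0, 0, 0, 0; 0, 1, 0, 0, 0, 0, 0; 0, 0, 1, 0, 0, 0, 0; 0, 0, 1, 0, 1, 0, 2; 0, 0, 0, 0, 2, 0, 0; 0, 0, 0, 1, 2, 0, 2; 0, 0, 0, 0, 1, 1, 2] : M7) := by
  rw [List.map_cons, refMats, spider_3]
  decide +kernel

theorem spider_5 : refMats e7Gram ([4, 7, 3, 5, 6].map nodeVec : List _) =
    (!![1, 0, 0, 0, 0, 0, 0; 0, 1, 0, 0, 0, 0, 0; 0, 0, 1, 0, 0, 0, 0; 0, 0, 1, 0, 1, 0, 2; 0, 0, 1, 0, 2, 0, 2; 0, 0, 0, 1, 2, 0, 2; 0, 0, 0, 0, 1, 1, 2] : M7) := by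
  rw [List.map_cons, refMats, spider_4]
  decide +kernel

theorem spider_6 : refMats e7Gram ([3, 4, 7, 3, 5, 6].map nodeVec : List _) =
    (!![1, 0, 0, 0, 0, 0, 0; 0, 1, 0, 0, 0, 0, 0; 0, 0, 1, 0, 0, 0, 0; 0, 0, 1, 1, 0, 0, 2; 0, 0, 1, 0, 2, 0, 2; 0, 0, 0, 1, 2, 0, 2; 0, 0, 0, 0, 1, 1, 2] : M7) := by
  rw [List.map_cons, refMats, spider_5]
  decide +kernel

theorem spider_7 : refMats e7Gram ([1, 3, 4, 7, 3, 5, 6].map nodeVec : List _) =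
    (!![1, 0, 0, 0, 0, 0, 0; 1, 2, 1, 0, 0, 0, 0; 0, 0, 1, 0, 0, 0, 0; 0, 0, 1, 1, 0, 0, 2; 0, 0, 1, 0, 2, 0, 2; 0, 0, 0, 1, 2, 0, 2; 0, 0, 0, 0, 1, 1, 2] : M7) := by
  rw [List.map_cons, refMats, spider_6]
  decide +kernel

theorem spider_8 : refMats e7Gram ([2, 1, 3, 4, 7, 3, 5, 6].map nodeVec : List _) =
    (!![1, 0, 0, 0, 0, 0, 0; 1, 2, 1, 0, 0, 0, 0; 1, 2, 1, 1, 0, 0, 2; 0, 0, 1, 1, 0, 0, 2; 0, 0, 1, 0, 2, 0, 2; 0, 0, 0, 1, 2, 0, 2; 0, 0, 0, 0, 1, 1, 2] : M7) := by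
  rw [List.map_cons, refMats, spider_7]
  decide +kernel

theorem spider_9 : refMats e7Gram ([3, 2, 1, 3, 4, 7, 3, 5, 6].map nodeVec : List _) =
    (!![1, 0, 0, 0, 0, 0, 0; 1, 2, 1, 0, 0, 0, 0; 1, 2, 1, 1, 0, 0, 2; 1, 2, 1, 1, 1, 0, 1; 0, 0, 1, 0, 2, 0, 2; 0, 0, 0, 1, 2, 0, 2; 0, 0, 0, 0, 1, 1, 2] : M7) := by
  rw [List.map_cons, refMats, spider_8]
  decide +kernel

/-- The power of the word. -/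
theorem spider_pow : refMats e7Gram (((List.replicate 10 spiderNodes).flatten).map nodeVec) = 1 := by
  rw [List.map_flatten, List.map_replicate, refMats_power, spiderNodes, spider_9,
    show (10 : ℕ) = 2 * 2 * 2 + 2 from rfl, pow_add, pow_mul, pow_mul,
    show (!![1, 0, 0, 0, 0, 0, 0; 1, 2, 1, 0, 0, 0, 0; 1, 2, 1, 1, 0, 0, 2; 1, 2, 1, 1, 1, 0, 1; 0, 0, 1, 0, 2, 0, 2; 0, 0, 0, 1, 2, 0, 2; 0, 0, 0, 0, 1, 1, 2] : M7) ^ 2 = !![1, 0, 0, 0, 0, 0, 0; 1, 0, 0, 1, 0, 0, 2; 2, 2, 1, 2, 0, 2, 1; 2, 2, 2, 2, 1, 1, 1; 1, 2, 0, 1, 0, 2, 1; 1, 2, 0, 1, 1, 2, 0; 0, 0, 1, 1, 0, 2, 2] by rw [sq]; decide +kernel,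
    show (!![1, 0, 0, 0, 0, 0, 0; 1, 0, 0, 1, 0, 0, 2; 2, 2, 1, 2, 0, 2, 1; 2, 2, 2, 2, 1, 1, 1; 1, 2, 0, 1, 0, 2, 1; 1, 2, 0, 1, 1, 2, 0; 0, 0, 1, 1, 0, 2, 2] : M7) ^ 2 = !![1, 0, 0, 0, 0, 0, 0; 0, 2, 1, 1, 1, 2, 2; 0, 1, 0, 2, 1, 1, 0; 2, 0, 1, 1, 0, 0, 2; 1, 0, 0, 1, 0, 1, 1; 2, 2, 2, 1, 0, 1, 0; 0, 2, 2, 2, 0, 2, 0] by rw [sq]; decide +kernel,
    show (!![1, 0, 0, 0, 0, 0, 0; 0, 2, 1, 1, 1, 2, 2; 0, 1, 0, 2, 1, 1, 0; 2, 0, 1, 1, 0, 0, 2; 1, 0, 0, 1, 0, 1, 1; 2, 2, 2, 1, 0, 1, 0; 0, 2, 2, 2, 0, 2, 0] : M7) ^ 2 = !![1, 0, 0, 0, 0, 0, 0; 1, 1, 2, 0, 0, 0, 1; 1, 1, 2, 2, 1, 1, 1; 1, 2, 2, 1, 1, 2, 2; 2, 1, 2, 1, 0, 0, 2; 0, 2, 2, 2, 1, 1, 0; 2, 1, 2, 1, 1, 2, 2] by rw [sq]; decide +kernel]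
  decide +kernel

/-- The word as a list of nodes. -/
def coxeterNodes : List (Fin 8) := [0, 1, 2, 3, 4, 7, 5]

theorem coxeter_1 : refMats e7Gram ([5].map nodeVec : List _) =
    (!![1, 0, 0, 0, 0, 0, 0; 0, 1, 0, 0, 0, 0, 0; 0, 0, 1, 0, 0, 0, 0; 0, 0, 0, 1, 0, 0, 0; 0, 0, 0, 0, 1, 0, 0; 0, 0, 0, 1, 0, 2, 1; 0, 0, 0, 0, 0, 0, 1] : M7) := by
  rw [List.map_cons, refMats, List.map_nil, refMats]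
  decide +kernel

theorem coxeter_2 : refMats e7Gram ([7, 5].map nodeVec : List _) =
    (!![1, 0, 0, 0, 0, 0, 0; 0, 1, 0, 0, 0, 0, 0; 0, 0, 1, 0, 0, 0, 0; 0, 0, 0, 1, 0, 0, 0; 0, 0, 0, 0, 2, 0, 0; 0, 0, 0, 1, 2, 2, 1; 0, 0, 0, 0, 1, 0, 1] : M7) := by
  rw [List.map_cons, refMats, coxeter_1]
  decide +kernel

theorem coxeter_3 : refMats e7Gram ([4, 7, 5].map nodeVec : List _) =
    (!![1, 0, 0, 0, 0, 0, 0; 0, 1, 0, 0, 0, 0, 0; 0, 0, 1, 0, 0, 0, 0; 0, 0, 0, 1, 0, 0, 0; 0, 0, 0, 1, 1, 0, 0; 0, 0, 0, 1, 2, 2, 1; 0, 0, 0, 0, 1, 0, 1] : M7) := by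
  rw [List.map_cons, refMats, coxeter_2]
  decide +kernel

theorem coxeter_4 : refMats e7Gram ([3, 4, 7, 5].map nodeVec : List _) =
    (!![1, 0, 0, 0, 0, 0, 0; 0, 1, 0, 0, 0, 0, 0; 0, 0, 1, 0, 0, 0, 0; 0, 0, 1, 1, 0, 2, 1; 0, 0, 0, 1, 1, 0, 0; 0, 0, 0, 1, 2, 2, 1; 0, 0, 0, 0, 1, 0, 1] : M7) := by
  rw [List.map_cons, refMats, coxeter_3]
  decide +kernel

theorem coxeter_5 : refMats e7Gram ([2, 3, 4, 7, 5].map nodeVec : List _) =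
    (!![1, 0, 0, 0, 0, 0, 0; 0, 1, 0, 0, 0, 0, 0; 0, 1, 0, 1, 0, 2, 1; 0, 0, 1, 1, 0, 2, 1; 0, 0, 0, 1, 1, 0, 0; 0, 0, 0, 1, 2, 2, 1; 0, 0, 0, 0, 1, 0, 1] : M7) := by
  rw [List.map_cons, refMats, coxeter_4]
  decide +kernel

theorem coxeter_6 : refMats e7Gram ([1, 2, 3, 4, 7, 5].map nodeVec : List _) =
    (!![1, 0, 0, 0, 0, 0, 0; 1, 0, 0, 1, 0, 2, 1; 0, 1, 0, 1, 0, 2, 1; 0, 0, 1, 1, 0, 2, 1; 0, 0, 0, 1, 1, 0, 0; 0, 0, 0, 1, 2, 2, 1; 0, 0, 0, 0, 1, 0, 1] : M7) := by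
  rw [List.map_cons, refMats, coxeter_5]
  decide +kernel

theorem coxeter_7 : refMats e7Gram ([0, 1, 2, 3, 4, 7, 5].map nodeVec : List _) =
    (!![0, 0, 0, 1, 0, 2, 1; 1, 0, 0, 1, 0, 2, 1; 0, 1, 0, 1, 0, 2, 1; 0, 0, 1, 1, 0, 2, 1; 0, 0, 0, 1, 1, 0, 0; 0, 0, 0, 1, 2, 2, 1; 0, 0, 0, 0, 1, 0, 1] : M7) := by
  rw [List.map_cons, refMats, coxeter_6]
  decide +kernel

/-- The power of the word. -/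
theorem coxeter_pow : refMats e7Gram (((List.replicate 9 coxeterNodes).flatten).map nodeVec) = (2 : ZMod 3) • 1 := by
  rw [List.map_flatten, List.map_replicate, refMats_power, coxeterNodes, coxeter_7,
    show (9 : ℕ) = 3 * 3 from rfl, pow_mul,
    show (!![0, 0, 0, 1, 0, 2, 1; 1, 0, 0, 1, 0, 2, 1; 0, 1, 0, 1, 0, 2, 1; 0, 0, 1, 1, 0, 2, 1; 0, 0, 0, 1, 1, 0, 0; 0, 0, 0, 1, 2, 2, 1; 0, 0, 0, 0, 1, 0, 1] : M7) ^ 3 = !![0, 1, 0, 0, 0, 2, 2; 0, 1, 1, 0, 2, 2, 0; 0, 1, 1, 1, 2, 1, 1; 1, 1, 1, 1, 2, 1, 1; 0, 1, 2, 0, 0, 1, 0; 0, 1, 2, 1, 2, 0, 1; 0, 0, 1, 0, 0, 2, 2] by rw [pow_three]; decide +kernel, pow_three]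
  decide +kernel

end CfsgLib.FischerPair
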