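import Cfsg.Agent.Lib.FischerPair.M23Frame.Frame
import Cfsg.Agent.Lib.FischerPair.M23Frame.Words
import Cfsg.Prelude.Def_Spor_Fi23

/-!
# Groups of type `M(23)`: ten members in the diagram of the presentation
-/

set_option autoImplicit false

namespace CfsgLib.M23

open Cfsg.Spor
open CfsgLib.Classical CfsgLib.ThreeTransp CfsgLib.SporMisc CfsgLib.ThreeTransp.Factor CfsgLib.FischerPair
open Matrix (mulVec)

variable {G : Type*} [Group G] [Finite G] {D : Set G}

/-- Ten members in the diagram `Y₃₄₂` satisfying the two further relations. -/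
structure Nodes (D : Set G) (val : Fi23.Gen → G) : Prop where
  mem : ∀ x, val x ∈ D
  joined : ∀ x y, coxLabel Fi23.edges x y = 3 → ¬ Commute (val x) (val y)
  apart : ∀ x y, coxLabel Fi23.edges x y = 2 → Commute (val x) (val y)
  spider : ((List.replicate 10 [val .d, val .c, val .b, val .d, val .e, val .f, val .d, val .h, val .i]).flatten).prod = 1
  coxeter : ((List.replicate 9 [val .a, val .b, val .c, val .d, val .e, val .f, val .h]).flatten).prod = 1

omit [Finite G] in
theorem Nodes.relators {val : Fi23.Gen → G} (hD : IsTT D) (N : Nodes D val) :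
    ∀ r ∈ coxRelators Fi23.edges ∪ {r | r ∈ Fi23.extra}, FreeGroup.lift val r = 1 := by
  rintro r (⟨x, hx, y, hy, rfl⟩ | hr)
  · rw [map_pow, map_mul, FreeGroup.lift_apply_of, FreeGroup.lift_apply_of]
    have hl : ∀ x y : Fi23.Gen, (x = y ∧ coxLabel Fi23.edges x y = 1) ∨ coxLabel Fi23.edges x y = 2 ∨
        coxLabel Fi23.edges x y = 3 := by
      intro x y
      cases x <;> cases y <;> first | exact Or.inl ⟨rfl, rfl⟩ | exact Or.inr (Or.inl rfl) | exact Or.inr (Or.inr rfl)
    rcases hl x y with ⟨rfl, h⟩ | h | h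
    · rw [h, pow_one]; exact hD.sq _ (N.mem x)
    · rw [h, (N.apart x y h).mul_pow, sq, sq, hD.sq _ (N.mem x), hD.sq _ (N.mem y), one_mul]
    · rw [h]
      exact pow_three_eq_one (hD.sq _ (N.mem x)) (hD.sq _ (N.mem y)) (hD.braid (N.mem x) (N.mem y) (N.joined x y h))
  · have hr' : r ∈ Fi23.extra := hr
    simp only [Fi23.extra, List.mem_cons, List.not_mem_nil, or_false] at hr'
    rcases hr' with rfl | rfl
    · rw [map_pow, ← N.spider, List.prod_flatten, List.map_replicate, List.prod_replicate]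
      simp [Fi23.b, Fi23.c, Fi23.d, Fi23.e, Fi23.f, Fi23.h, Fi23.i, mul_assoc]
    · rw [map_pow, ← N.coxeter, List.prod_flatten, List.map_replicate, List.prod_replicate]
      simp [Fi23.a, Fi23.b, Fi23.c, Fi23.d, Fi23.e, Fi23.f, Fi23.h, mul_assoc]

/-- The seven nodes of the second configuration. -/
def sevenNode : Fin 7 → Fi23.Gen := ![.a, .b, .c, .d, .e, .h, .i]

theorem joined_cases : ∀ x y : Fi23.Gen, coxLabel Fi23.edges x y = 3 →
    (x, y) ∈ [(.a, .b), (.b, .a), (.b, .c), (.c, .b), (.c, .d), (.d, .c), (.d, .e), (.e, .d), (.d, .h), (.h, .d),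
      (.e, .f), (.f, .e), (.f, .g), (.g, .f), (.g, .j), (.j, .g), (.h, .i), (.i, .h)] := by
  intro x y; cases x <;> cases y <;> decide

/-- The kinds of pairs of nodes that are not joined. -/
def apartKind (x y : Fi23.Gen) : Prop :=
  (∃ k l : Fin 7, k ≠ l ∧ e7Edge k l = false ∧ x = sevenNode k ∧ y = sevenNode l) ∨
    (∃ k : Fin 7, (x = .g ∨ x = .j) ∧ y = sevenNode k) ∨ (∃ k : Fin 7, k ≠ 4 ∧ x = .f ∧ y = sevenNode k) ∨
      (x = .j ∧ y = .f)

instance (x y : Fi23.Gen) : Decidable (apartKind x y) := by unfold apartKind; infer_instance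

theorem apart_cases : ∀ x y : Fi23.Gen, coxLabel Fi23.edges x y = 2 → apartKind x y ∨ apartKind y x := by
  intro x y; cases x <;> cases y <;> decide

theorem exists_nodes (S : Setup D) : ∃ val, Nodes D val := by
  obtain ⟨d₀, hd₀, j, hj, hnc⟩ := S.exists_noncommuting
  obtain ⟨g, K, a, ma, e, me, hea⟩ := exists_corner S hd₀ hj hnc
  obtain ⟨c, d, h, i, v, T⟩ := K.exists_seven ma me hea
  obtain ⟨M⟩ := exists_refModel S hd₀ hj hnc
  obtain ⟨b, ⟨mb, lib, leb, lvb, nab, ncb⟩, hdb, hhb⟩ := T.exists_b M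
  have ldb : b ∈ link D d := ⟨mb.1.1.1, fun e' => nab (e' ▸ T.da.2.2), hdb⟩
  have lhb : b ∈ link D h := ⟨mb.1.1.1, fun e' => nab (e' ▸ T.ha.2.2), hhb⟩
  let w : Fin 7 → G := ![a, b, c, d, e, h, i]
  have hw : ∀ k : Fin 7, w k ∈ midSet D d₀ j g :=
    Fin.forall_fin_succ.2 ⟨T.ma, Fin.forall_fin_succ.2 ⟨mb, Fin.forall_fin_succ.2 ⟨T.mc, Fin.forall_fin_succ.2 ⟨T.md,
      Fin.forall_fin_succ.2 ⟨T.me, Fin.forall_fin_succ.2 ⟨T.mh, Fin.forall_fin_succ.2 ⟨T.mi, fun k => k.elim0⟩⟩⟩⟩⟩⟩⟩
  have up : ∀ k l : Fin 7, k < l → (e7Edge k l = false → w l ∈ link D (w k)) ∧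
      (e7Edge k l = true → ¬ Commute (w k) (w l)) := by
    intro k l hkl
    refine ⟨fun hf => ?_, fun ht => ?_⟩ <;> fin_cases k <;> fin_cases l <;>
      first
        | exact absurd hkl (by decide)
        | exact absurd hf (by decide)
        | exact absurd ht (by decide)
        | exact T.aec.2.2.2.1.1.2 | exact T.da | exact hea | exact T.ha | exact T.ia
        | exact link_swap T.md.1.1.1 ldb | exact link_swap T.me.1.1.1 leb | exact link_swap T.mh.1.1.1 lhb
        | exact link_swap T.mi.1.1.1 lib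
        | exact link_swap T.me.1.1.1 T.aec.2.2.2.1.2 | exact T.hc | exact T.ic
        | exact link_swap T.mi.1.1.1 T.di | exact T.he | exact link_swap T.mi.1.1.1 T.iev.2.2.1
        | exact nab | exact fun x => ncb x.symm | exact fun x => T.ndc x.symm | exact T.nde | exact T.ndh
        | exact T.nhi
  have hne : ∀ k l, k ≠ l → w k ≠ w l ∧ (Commute (w k) (w l) ↔ e7Edge k l = false) := by
    have key : ∀ k l, k < l → w k ≠ w l ∧ (Commute (w k) (w l) ↔ e7Edge k l = false) := by
      intro k l hkl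
      cases he : e7Edge k l
      · exact ⟨((up k l hkl).1 he).2.1.symm, iff_of_true ((up k l hkl).1 he).2.2 rfl⟩
      · exact ⟨fun e' => (up k l hkl).2 he (e' ▸ Commute.refl _), iff_of_false ((up k l hkl).2 he) (by simp)⟩
    intro k l hkl
    rcases lt_or_gt_of_ne hkl with hlt | hlt
    · exact key k l hlt
    · obtain ⟨h1, h2⟩ := key l k hlt
      exact ⟨h1.symm, (⟨Commute.symm, Commute.symm⟩ : Commute (w k) (w l) ↔ Commute (w l) (w k)).trans
        (h2.trans (by rw [(show ∀ k l : Fin 7, e7Edge k l = e7Edge l k by decide) k l]))⟩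
  obtain ⟨s, hs, hG⟩ := exists_e7_signs (Q := M.Q) M.hc (fun k => M.vec (w k)) (fun k => M.norm (hw k).1)
    fun k l hkl => (inp_zero_iff M (hw k).1 (hw l).1 (hne k l hkl).1).trans (hne k l hkl).2
  set u : Fin 7 → Fin 7 → ZMod 3 := fun k => s k • M.vec (w k) with hu
  set y := nodeVec 7 with hy
  have hyy : inp M.Q M.c (comb u y) (comb u y) = 2 := by
    rw [inp_comb M.Q M.c u e7Gram hG, hy]; decide +kernel
  have hyn : M.Q (comb u y) = M.c := by
    rw [inp, qf_polar_self] at hyy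
    revert hyy
    generalize M.Q (comb u y) = q
    have := M.hc
    revert this
    generalize M.c = t
    revert q t
    decide +kernel
  obtain ⟨f, hf, hfv⟩ := M.surj hyn
  obtain ⟨σ, hσ, hσf⟩ : ∃ σ : ZMod 3, σ ≠ 0 ∧ M.vec f = σ • comb u y := by
    rcases hfv with h' | h'
    · exact ⟨1, one_ne_zero, by rw [h', one_smul]⟩
    · exact ⟨-1, by decide, by rw [h', neg_smul, one_smul]⟩
  have hfk : ∀ k, inp M.Q M.c (M.vec (w k)) (M.vec f) = 0 ↔ k ≠ 4 := by
    intro k
    have e1 : inp M.Q M.c (u k) (M.vec f) = s k * inp M.Q M.c (M.vec (w k)) (M.vec f) := by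
      have := inp_smul M.Q M.c (s k) 1 (M.vec (w k)) (M.vec f)
      rwa [one_smul, mul_one] at this
    have e2 : inp M.Q M.c (u k) (M.vec f) = σ * mulVec e7Gram y k := by
      have := inp_smul M.Q M.c 1 σ (u k) (comb u y)
      rwa [one_smul, one_mul, ← hσf, inp_comb_right M.Q M.c u e7Gram hG] at this
    have e3 : ∀ k, mulVec e7Gram y k = 0 ↔ k ≠ 4 := by rw [hy]; decide +kernel
    rw [← e3 k, ← mul_eq_zero_iff_left (hs k) (b := inp M.Q M.c (M.vec (w k)) (M.vec f)), ← e1, e2,
      mul_eq_zero_iff_left hσ]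
  have hcf : ∀ k, k ≠ 4 → Commute (w k) f := fun k hk =>
    (M.comm (hw k).1 hf).2 (Or.inr ((mul_eq_zero.1 ((hfk k).2 hk)).resolve_left (inv_ne_zero M.hc)))
  have nef : ¬ Commute e f := by
    refine fun hc' => absurd rfl ((hfk 4).1 ?_)
    have hef : e ≠ f := fun e' => T.nde (e' ▸ hcf 3 (by decide))
    exact (inp_zero_iff M T.me.1 hf hef).2 hc'
  have nfg : ¬ Commute f g := by
    intro hc'
    refine nef (K.triple_comm (K.triple_rot T.aec)
      ⟨hf, hf.1.1, fun e' => K.hgj (e' ▸ hf.2.2.2.symm), hc'.symm⟩ (hcf 0 (by decide)).symm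
      (hcf 2 (by decide)).symm).symm
  let node : Fin 8 → G := ![a, b, c, d, e, h, i, f]
  have hnode : ∀ k, node k ∈ common D d₀ j :=
    Fin.forall_fin_succ.2 ⟨T.ma.1, Fin.forall_fin_succ.2 ⟨mb.1, Fin.forall_fin_succ.2 ⟨T.mc.1,
      Fin.forall_fin_succ.2 ⟨T.md.1, Fin.forall_fin_succ.2 ⟨T.me.1, Fin.forall_fin_succ.2 ⟨T.mh.1,
      Fin.forall_fin_succ.2 ⟨T.mi.1, Fin.forall_fin_succ.2 ⟨hf, fun k => k.elim0⟩⟩⟩⟩⟩⟩⟩⟩
  have hsingle : ∀ k : Fin 8, ∀ hk : k.val < 7, nodeVec k = Pi.single (⟨k.val, hk⟩ : Fin 7) 1 := by decide +kernel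
  have hscale : ∀ k : Fin 8, ∃ t : ZMod 3, t ≠ 0 ∧ M.vec (node k) = t • comb u (nodeVec k) := by
    intro k
    by_cases hk : k.val < 7
    · have he : node k = w ⟨k.val, hk⟩ := by
        fin_cases k <;> first | rfl | exact absurd hk (by decide)
      refine ⟨s ⟨k.val, hk⟩, hs _, ?_⟩
      rw [hsingle k hk, comb_single, hu, he, smul_smul,
        (show ∀ a : ZMod 3, a ≠ 0 → a * a = 1 by decide) _ (hs _), one_smul]
    · obtain rfl : k = 7 := by fin_cases k <;> first | rfl | exact absurd (by decide) hk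
      exact ⟨σ, hσ, hσf⟩
  have hword : ∀ (ks : List (Fin 8)) (t : ZMod 3), t = 1 ∨ t = 2 →
      refMats e7Gram (ks.map nodeVec) = t • 1 → (ks.map node).prod = 1 := by
    intro ks t ht hm
    have hact : ∀ z, refAct M.Q M.c ((ks.map node).map M.vec) z = t • z := by
      intro z
      rw [List.map_map, refAct_smul M.Q M.c (M.vec ∘ node) (comb u ∘ nodeVec) ks (fun k _ => hscale k),
        ← List.map_map]
      exact refAct_eq M.Q M.c u e7Gram hG M.hc M.hdet e7Inv_mul _ t hm z
    refine M.word _ (fun x hx => ?_) ?_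
    · obtain ⟨k, -, rfl⟩ := List.mem_map.1 hx
      exact hnode k
    · rcases ht with rfl | rfl
      · exact Or.inl fun z => by rw [hact, one_smul]
      · exact Or.inr fun z => by rw [hact, show (2 : ZMod 3) = -1 by decide, neg_smul, one_smul]
  refine ⟨fun x => match x with
    | .a => a | .b => b | .c => c | .d => d | .e => e | .f => f | .g => g | .j => j | .h => h | .i => i,
    fun x => ?_, fun x y hl => ?_, fun x y hl => ?_, ?_, ?_⟩
  · cases x
    exacts [T.ma.1.1.1, mb.1.1.1, T.mc.1.1.1, T.md.1.1.1, T.me.1.1.1, hf.1.1, K.hg.1, K.hj, T.mh.1.1.1, T.mi.1.1.1]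
  · have hc := joined_cases x y hl
    simp only [List.mem_cons, Prod.mk.injEq, List.not_mem_nil, or_false] at hc
    rcases hc with h' | h' | h' | h' | h' | h' | h' | h' | h' | h' | h' | h' | h' | h' | h' | h' | h' | h' <;>
      obtain ⟨rfl, rfl⟩ := h'
    exacts [nab, fun z => nab z.symm, fun z => ncb z.symm, ncb, fun z => T.ndc z.symm, T.ndc, T.nde,
      fun z => T.nde z.symm, T.ndh, fun z => T.ndh z.symm, nef, fun z => nef z.symm, nfg, fun z => nfg z.symm,
      K.hgj, fun z => K.hgj z.symm, T.nhi, fun z => T.nhi z.symm]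
  · set val : Fi23.Gen → G := fun x => match x with
      | .a => a | .b => b | .c => c | .d => d | .e => e | .f => f | .g => g | .j => j | .h => h | .i => i with hval
    have hv : ∀ k, val (sevenNode k) = w k := fun k => by fin_cases k <;> rfl
    have one : ∀ x y, apartKind x y → Commute (val x) (val y) := by
      rintro x y (⟨k, l, hkl, he', rfl, rfl⟩ | ⟨k, hx', rfl⟩ | ⟨k, hk, rfl, rfl⟩ | ⟨rfl, rfl⟩)
      · rw [hv, hv]; exact (hne k l hkl).2.2 he'
      · rw [hv]; rcases hx' with rfl | rfl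
        · exact (hw k).2.2.2
        · exact (hw k).1.2.2.2
      · rw [hv]; exact (hcf k hk).symm
      · exact hf.2.2.2
    exact (apart_cases x y hl).elim (one x y) fun h' => (one y x h').symm
  · have := hword ((List.replicate 10 spiderNodes).flatten) 1 (Or.inl rfl) (spider_pow.trans (one_smul _ _).symm)
    rwa [List.map_flatten, List.map_replicate] at this
  · have := hword ((List.replicate 9 coxeterNodes).flatten) 2 (Or.inr rfl) coxeter_pow
    rwa [List.map_flatten, List.map_replicate] at this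

end CfsgLib.M23
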