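import Cfsg.Agent.Lib.FischerPair.M23Frame.View

/-!
# Groups of type `M(23)`: the radical member of a commuting pair

For non-commuting `d₀`, `j` and a neighbour `g` of `d₀` not commuting with `j`, two commuting common neighbours
of all three determine a third one.
-/

set_option autoImplicit false

namespace CfsgLib.M23

open CfsgLib.ThreeTransp CfsgLib.SporMisc CfsgLib.ThreeTransp.Factor CfsgLib.FischerPair
open CfsgLib.U6 (IsPt)
open CfsgLib.PSUAut (Isot)

variable {G : Type*} [Group G] [Finite G] {D : Set G}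

/-- The common neighbours of `d₀` and `j` in the link of `g`. -/
abbrev midSet (D : Set G) (d₀ j g : G) : Set G := common D d₀ j ∩ link D g

/-- The members of `midSet` next to both `x` and `y`. -/
abbrev pairSet (D : Set G) (d₀ j g x y : G) : Set G := midSet D d₀ j g ∩ link D x ∩ link D y

/-- Non-commuting `d₀`, `j` and a neighbour of `d₀` not commuting with `j`. -/
structure Corner (D : Set G) (d₀ j g : G) : Prop where
  set : Setup D
  hd : d₀ ∈ D
  hj : j ∈ D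
  hnc : ¬ Commute d₀ j
  hg : g ∈ link D d₀
  hgj : ¬ Commute g j

/-- The vectors of `d₀` and `j` and that they are not orthogonal. -/
theorem View.pair_vec {x y d₀ j : G} (V : View D x y) (hd : d₀ ∈ D) (hj : j ∈ D) (hnc : ¬ Commute d₀ j)
    (hx : x ∈ common D d₀ j) (hy : y ∈ common D d₀ j) :
    d₀ ∈ link D x ∩ link D y ∧ j ∈ link D x ∩ link D y ∧ Cfsg.hermForm 6 V.F 2 (V.vec j) (V.vec d₀) ≠ 0 := by
  have h1 : d₀ ∈ link D x ∩ link D y := ⟨link_swap hd hx.1, link_swap hd hy.1⟩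
  have h2 : j ∈ link D x ∩ link D y := ⟨link_swap hj hx.2, link_swap hj hy.2⟩
  exact ⟨h1, h2, fun h => hnc ((V.comm h2 h1).2 h).symm⟩

/-- A member of the view orthogonal to the vectors of `d₀` and `j` is a common neighbour. -/
theorem View.mem_common {x y d₀ j e : G} (V : View D x y) (hd : d₀ ∈ link D x ∩ link D y)
    (hj : j ∈ link D x ∩ link D y) (hnc : ¬ Commute d₀ j) (he : e ∈ link D x ∩ link D y)
    (h1 : Cfsg.hermForm 6 V.F 2 (V.vec e) (V.vec d₀) = 0) (h2 : Cfsg.hermForm 6 V.F 2 (V.vec e) (V.vec j) = 0) :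
    e ∈ common D d₀ j := by
  have c1 := (V.comm he hd).2 h1
  have c2 := (V.comm he hj).2 h2
  exact ⟨⟨he.1.1, fun h => hnc (h ▸ c2), c1.symm⟩, he.1.1, fun h => hnc (h ▸ c1).symm, c2.symm⟩

/-- Such a corner exists, with a commuting pair below it. -/
theorem exists_corner (S : Setup D) {d₀ j : G} (hd : d₀ ∈ D) (hj : j ∈ D) (hnc : ¬ Commute d₀ j) :
    ∃ g, Corner D d₀ j g ∧ ∃ x ∈ midSet D d₀ j g, ∃ y ∈ midSet D d₀ j g, y ∈ link D x := by
  have P := pairData S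
  obtain ⟨x, hx⟩ := P.nonempty hd hj hnc
  obtain ⟨y, hy, hyx⟩ := P.valency hd hj hnc hx
  obtain ⟨V⟩ := exists_view S hx.1.1 hyx
  obtain ⟨ld, lj, hCA⟩ := V.pair_vec hd hj hnc hx hy
  set A := V.vec d₀
  set C := V.vec j
  have hA := V.isot ld
  have hAC : Cfsg.hermForm 6 V.F 2 A C ≠ 0 := fun h => hCA ((U6.comm_zero V.hF).1 h)
  obtain ⟨R, hR, hRp⟩ := U6.exists_iso_perp_of V.hF ![A, C] (by norm_num)
  have hRA : Cfsg.hermForm 6 V.F 2 R A = 0 := hRp 0
  have hRC : Cfsg.hermForm 6 V.F 2 R C = 0 := hRp 1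
  have hBC : Cfsg.hermForm 6 V.F 2 (A + R) C = Cfsg.hermForm 6 V.F 2 A C := by
    rw [U6.add_left V.hF, hRC, add_zero]
  have hB : Isot 2 (A + R) := by
    refine ⟨fun h => hAC ?_, ?_⟩
    · rw [← hBC, h, U6.zero_left V.hF]
    · rw [U6.add_left V.hF, U6.add_right V.hF, U6.add_right V.hF, hA.2, hR.2, hRA, (U6.comm_zero V.hF).1 hRA,
        add_zero, add_zero]
  obtain ⟨g, lg, r, hr, hgv⟩ := V.surj hB
  have hgd : g ≠ d₀ := by
    intro h
    subst h
    have e : R = (r⁻¹ - 1) • A := by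
      rw [sub_smul, one_smul, show A = r • (A + R) from hgv, inv_smul_smul₀ hr]
      conv_rhs => rw [← show A = r • (A + R) from hgv]
      rw [add_sub_cancel_left]
    rw [e, U6.smul_left V.hF, mul_eq_zero] at hRC
    rcases hRC with h | h
    · rw [h, zero_smul] at e; exact hR.1 e
    · exact hAC h
  have hgA : Commute g d₀ := (V.comm lg ld).2 (by
    rw [hgv, U6.smul_left V.hF, U6.add_left V.hF, hA.2, hRA, add_zero, mul_zero])
  have hgj : ¬ Commute g j := fun h => by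
    have := (V.comm lg lj).1 h
    rw [hgv, U6.smul_left V.hF, hBC] at this
    exact mul_ne_zero hr hAC this
  exact ⟨g, ⟨S, hd, hj, hnc, ⟨lg.1.1, hgd, hgA.symm⟩, hgj⟩, x, ⟨hx, link_swap hx.1.1 lg.1⟩, y,
    ⟨hy, link_swap hy.1.1 lg.2⟩, hyx⟩

variable {d₀ j g : G}

/-- The radical member of a commuting pair and the geometry around it. -/
theorem exists_radical (K : Corner D d₀ j g) {x y : G} (hx : x ∈ midSet D d₀ j g) (hy : y ∈ midSet D d₀ j g)
    (hyx : y ∈ link D x) :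
    ∃ r ∈ pairSet D d₀ j g x y, (∀ z ∈ pairSet D d₀ j g x y, Commute z r) ∧
      (∀ z ∈ pairSet D d₀ j g x y, z ≠ r → ∃ w ∈ pairSet D d₀ j g x y, ¬ Commute z w) ∧
      (∃ z ∈ pairSet D d₀ j g x y, z ≠ r) ∧
      (∀ z ∈ pairSet D d₀ j g x y, ∀ w ∈ pairSet D d₀ j g x y, z ≠ r → Commute z w →
        ∀ u ∈ pairSet D d₀ j g x y, Commute u z → Commute u w) := by
  obtain ⟨V⟩ := exists_view K.set hx.1.1.1 hyx
  have hF := V.hF
  obtain ⟨ld, lj, hCA⟩ := V.pair_vec K.hd K.hj K.hnc hx.1 hy.1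
  have lg : g ∈ link D x ∩ link D y := ⟨link_swap K.hg.1 hx.2, link_swap K.hg.1 hy.2⟩
  set A := V.vec d₀
  set C := V.vec j
  set B := V.vec g
  have hA := V.isot ld
  have hB := V.isot lg
  have hAC : Cfsg.hermForm 6 V.F 2 A C ≠ 0 := fun h => hCA ((U6.comm_zero hF).1 h)
  have hBA : Cfsg.hermForm 6 V.F 2 B A = 0 := (V.comm lg ld).1 K.hg.2.2.symm
  have hBC : Cfsg.hermForm 6 V.F 2 B C ≠ 0 := fun h => K.hgj ((V.comm lg lj).2 h)
  set k := Cfsg.hermForm 6 V.F 2 B C * (Cfsg.hermForm 6 V.F 2 A C)⁻¹ with hk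
  set R := B + k • A with hRdef
  have hRA : Cfsg.hermForm 6 V.F 2 R A = 0 := by
    rw [hRdef, U6.add_left hF, U6.smul_left hF, hBA, hA.2, mul_zero, add_zero]
  have hRC : Cfsg.hermForm 6 V.F 2 R C = 0 := by
    rw [hRdef, U6.add_left hF, U6.smul_left hF, hk, mul_assoc, inv_mul_cancel₀ hAC, mul_one, U6.add_self hF]
  have hR : Isot 2 R := by
    refine ⟨fun h => ?_, ?_⟩
    · have h' : B = (-k) • A := by rw [neg_smul]; exact eq_neg_of_add_eq_zero_left h
      exact K.hg.2.1 (V.inj ld lg h').symm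
    · rw [hRdef, U6.add_left hF, U6.add_right hF, U6.add_right hF, U6.smul_left hF, U6.smul_left hF,
        U6.smul_right hF, U6.smul_right hF, hA.2, hB.2, hBA, (U6.comm_zero hF).1 hBA]
      ring
  obtain ⟨r, lr, a, ha, hrv⟩ := V.surj hR
  have perp : ∀ {z : G}, z ∈ common D d₀ j → z ∈ link D x ∩ link D y →
      Cfsg.hermForm 6 V.F 2 (V.vec z) A = 0 ∧ Cfsg.hermForm 6 V.F 2 (V.vec z) C = 0 := fun hz lz =>
    ⟨(V.comm lz ld).1 hz.1.2.2.symm, (V.comm lz lj).1 hz.2.2.2.symm⟩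
  have iffR : ∀ {z : G}, z ∈ common D d₀ j → z ∈ link D x ∩ link D y →
      (Commute z g ↔ Cfsg.hermForm 6 V.F 2 (V.vec z) R = 0) := by
    intro z hz lz
    rw [V.comm lz lg, hRdef, U6.add_right hF, U6.smul_right hF, (perp hz lz).1, mul_zero, add_zero]
  -- a point orthogonal to the three is a member
  have mk : ∀ {v : Fin 6 → V.F}, Isot 2 v → Cfsg.hermForm 6 V.F 2 v A = 0 → Cfsg.hermForm 6 V.F 2 v C = 0 →
      Cfsg.hermForm 6 V.F 2 v R = 0 → ∃ z ∈ pairSet D d₀ j g x y, ∃ t : V.F, t ≠ 0 ∧ V.vec z = t • v := by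
    intro v hv h1 h2 h3
    obtain ⟨z, lz, t, ht, hzv⟩ := V.surj hv
    have hz : z ∈ common D d₀ j := V.mem_common ld lj K.hnc lz (by rw [hzv, U6.smul_left hF, h1, mul_zero])
      (by rw [hzv, U6.smul_left hF, h2, mul_zero])
    have hzg : Commute z g := (iffR hz lz).2 (by rw [hzv, U6.smul_left hF, h3, mul_zero])
    exact ⟨z, ⟨⟨⟨hz, hz.1.1, fun h => K.hgj (h ▸ hz.2.2.2.symm), hzg.symm⟩, lz.1⟩, lz.2⟩, t, ht, hzv⟩
  have hrC : r ∈ common D d₀ j := V.mem_common ld lj K.hnc lr (by rw [hrv, U6.smul_left hF, hRA, mul_zero])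
    (by rw [hrv, U6.smul_left hF, hRC, mul_zero])
  have hrW : r ∈ pairSet D d₀ j g x y := by
    have hzg : Commute r g := (iffR hrC lr).2 (by rw [hrv, U6.smul_left hF, hR.2, mul_zero])
    exact ⟨⟨⟨hrC, hrC.1.1, fun h => K.hgj (h ▸ hrC.2.2.2.symm), hzg.symm⟩, lr.1⟩, lr.2⟩
  have rad : ∀ z ∈ pairSet D d₀ j g x y, Cfsg.hermForm 6 V.F 2 (V.vec z) R = 0 := fun z hz =>
    (iffR hz.1.1.1 ⟨hz.1.2, hz.2⟩).1 hz.1.1.2.2.2.symm
  have notspan : ∀ z ∈ pairSet D d₀ j g x y, z ≠ r →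
      V.vec z ∉ Submodule.span V.F (Set.range ![A, C, R]) := by
    intro z hz hzr hmem
    obtain ⟨c, hc⟩ := (Submodule.mem_span_range_iff_exists_fun V.F).1 hmem
    simp only [Fin.sum_univ_three, Matrix.cons_val_zero, Matrix.cons_val_one, Matrix.cons_val] at hc
    obtain ⟨h1, h2⟩ := perp hz.1.1.1 ⟨hz.1.2, hz.2⟩
    rw [← hc, U6.add_left hF, U6.add_left hF, U6.smul_left hF, U6.smul_left hF, U6.smul_left hF, hA.2, hRA,
      mul_zero, mul_zero, zero_add, add_zero, mul_eq_zero] at h1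
    rw [← hc, U6.add_left hF, U6.add_left hF, U6.smul_left hF, U6.smul_left hF, U6.smul_left hF,
      (V.isot lj).2, hRC, mul_zero, mul_zero, add_zero, add_zero, mul_eq_zero] at h2
    rw [h1.resolve_right hCA, h2.resolve_right hAC, zero_smul, zero_smul, zero_add, zero_add] at hc
    exact hzr (V.inj lr ⟨hz.1.2, hz.2⟩ (r := c 2 * a⁻¹) (by
      rw [hrv, smul_smul, mul_assoc, inv_mul_cancel₀ ha, mul_one, hc])).symm
  refine ⟨r, hrW, fun z hz => ?_, fun z hz hzr => ?_, ?_, fun z hz w hw hzr hzw u hu huz => ?_⟩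
  · rw [V.comm ⟨hz.1.2, hz.2⟩ lr, hrv, U6.smul_right hF, rad z hz, mul_zero]
  · obtain ⟨h1, h2⟩ := perp hz.1.1.1 ⟨hz.1.2, hz.2⟩
    obtain ⟨v, hv, hvp, hvz⟩ := U6.exists_iso_pairing hF ![A, C, R] (V.isot ⟨hz.1.2, hz.2⟩).2
      (Fin.forall_fin_succ.2 ⟨h1, Fin.forall_fin_succ.2 ⟨h2, Fin.forall_fin_succ.2 ⟨rad z hz, fun i => i.elim0⟩⟩⟩)
      (notspan z hz hzr)
    obtain ⟨w, hw, t, ht, hwv⟩ := mk hv (hvp 0) (hvp 1) (hvp 2)
    refine ⟨w, hw, fun h => ?_⟩
    have := (V.comm ⟨hw.1.2, hw.2⟩ ⟨hz.1.2, hz.2⟩).1 h.symm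
    rw [hwv, U6.smul_left hF, hvz, mul_one] at this
    exact ht this
  · have hns : R ∉ Submodule.span V.F (Set.range ![A, C]) := by
      intro hmem
      obtain ⟨c, hc⟩ := (Submodule.mem_span_range_iff_exists_fun V.F).1 hmem
      simp only [Fin.sum_univ_two, Matrix.cons_val_zero, Matrix.cons_val_one] at hc
      have h1 := hRA
      have h2 := hRC
      rw [← hc, U6.add_left hF, U6.smul_left hF, U6.smul_left hF, hA.2, mul_zero, zero_add, mul_eq_zero] at h1
      rw [← hc, U6.add_left hF, U6.smul_left hF, U6.smul_left hF, (V.isot lj).2, mul_zero, add_zero,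
        mul_eq_zero] at h2
      rw [h1.resolve_right hCA, h2.resolve_right hAC, zero_smul, zero_smul, add_zero] at hc
      exact hR.1 hc.symm
    obtain ⟨R', -, -, hR'R⟩ := U6.exists_iso_pairing hF ![A, C] hR.2
      (Fin.forall_fin_succ.2 ⟨hRA, Fin.forall_fin_succ.2 ⟨hRC, fun i => i.elim0⟩⟩) hns
    obtain ⟨v, hv, hvp⟩ := U6.exists_iso_perp_of hF ![A, C, R, R'] (by norm_num)
    obtain ⟨z, hz, t, ht, hzv⟩ := mk hv (hvp 0) (hvp 1) (hvp 2)
    refine ⟨z, hz, fun h => ?_⟩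
    have h' : t • v = a • R := by rw [← hzv, ← hrv, h]
    have h3 : Cfsg.hermForm 6 V.F 2 (t • v) R' = 0 := by
      rw [U6.smul_left hF, show Cfsg.hermForm 6 V.F 2 v R' = 0 from hvp 3, mul_zero]
    rw [h', U6.smul_left hF, U6.comm_one hF hR'R, mul_one] at h3
    exact ha h3
  · have lz : z ∈ link D x ∩ link D y := ⟨hz.1.2, hz.2⟩
    have lw : w ∈ link D x ∩ link D y := ⟨hw.1.2, hw.2⟩
    have lu : u ∈ link D x ∩ link D y := ⟨hu.1.2, hu.2⟩
    obtain ⟨zA, zC⟩ := perp hz.1.1.1 lz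
    obtain ⟨wA, wC⟩ := perp hw.1.1.1 lw
    have hzR := rad z hz
    have P : U6.IsPlane R (V.vec z) A := ⟨hR.2, (V.isot lz).2, hA.2, (U6.comm_zero hF).1 hzR, hRA, zA, hR.1,
      fun h => notspan z hz hzr (Submodule.span_mono (Set.singleton_subset_iff.2 (by simp)) h),
      fun h => hCA (by
        obtain ⟨p, q, hpq⟩ := Submodule.mem_span_pair.1 h
        rw [← hpq, U6.add_right hF, U6.smul_right hF, U6.smul_right hF, (U6.comm_zero hF).1 hRC,
          (U6.comm_zero hF).1 zC, mul_zero, mul_zero, add_zero])⟩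
    obtain ⟨p, q, o, hw'⟩ := P.mem_of_perp hF (rad w hw) ((V.comm lw lz).1 hzw.symm) wA
    rw [hw', U6.add_left hF, U6.add_left hF, U6.smul_left hF, U6.smul_left hF, U6.smul_left hF, hRC, zC,
      mul_zero, mul_zero, zero_add, zero_add, mul_eq_zero] at wC
    rw [wC.resolve_right hAC, zero_smul, add_zero] at hw'
    rw [V.comm lu lw, hw', U6.add_right hF, U6.smul_right hF, U6.smul_right hF, rad u hu,
      (V.comm lu lz).1 huz, mul_zero, mul_zero, add_zero]

namespace Corner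

variable (K : Corner D d₀ j g)
include K

omit [Finite G] K in
theorem pairSet_swap (x y : G) : pairSet D d₀ j g x y = pairSet D d₀ j g y x := by
  simp only [pairSet, Set.inter_assoc, Set.inter_comm (link D x)]

/-- The radical member is determined by commuting with all of the set of the pair. -/
theorem rad_unique {x y r r' : G} (hx : x ∈ midSet D d₀ j g) (hy : y ∈ midSet D d₀ j g) (hyx : y ∈ link D x)
    (hr : r ∈ pairSet D d₀ j g x y) (hr' : r' ∈ pairSet D d₀ j g x y)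
    (h : ∀ z ∈ pairSet D d₀ j g x y, Commute z r) (h' : ∀ z ∈ pairSet D d₀ j g x y, Commute z r') : r = r' := by
  obtain ⟨s, -, -, hs, -, -⟩ := exists_radical K hx hy hyx
  have key : ∀ t ∈ pairSet D d₀ j g x y, (∀ z ∈ pairSet D d₀ j g x y, Commute z t) → t = s := by
    intro t ht h
    by_contra hne
    obtain ⟨w, hw, hwt⟩ := hs t ht hne
    exact hwt (h w hw).symm
  rw [key r hr h, key r' hr' h']

/-- A pair together with its radical member. -/
def IsTriple (_ : Corner D d₀ j g) (x y r : G) : Prop :=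
  x ∈ midSet D d₀ j g ∧ y ∈ midSet D d₀ j g ∧ y ∈ link D x ∧ r ∈ pairSet D d₀ j g x y ∧
    ∀ z ∈ pairSet D d₀ j g x y, Commute z r

theorem exists_triple {x y : G} (hx : x ∈ midSet D d₀ j g) (hy : y ∈ midSet D d₀ j g) (hyx : y ∈ link D x) :
    ∃ r, K.IsTriple x y r := by
  obtain ⟨r, hr, hc, -⟩ := exists_radical K hx hy hyx
  exact ⟨r, hx, hy, hyx, hr, hc⟩

theorem triple_swap {x y r : G} (h : K.IsTriple x y r) : K.IsTriple y x r :=
  ⟨h.2.1, h.1, link_swap h.1.1.1.1 h.2.2.1, pairSet_swap x y ▸ h.2.2.2.1, pairSet_swap x y ▸ h.2.2.2.2⟩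

/-- The third member of a triple gives back the second. -/
theorem triple_rot {x y r : G} (h : K.IsTriple x y r) : K.IsTriple x r y := by
  obtain ⟨hx, hy, hyx, hr, hc⟩ := h
  have hy' : y ∈ pairSet D d₀ j g x r := ⟨⟨hy, hyx⟩, link_swap hy.1.1.1 hr.2⟩
  refine ⟨hx, hr.1.1, hr.1.2, hy', fun z hz => ?_⟩
  obtain ⟨r', hr', hc', -⟩ := exists_radical K hx hr.1.1 hr.1.2
  suffices r' = y by rw [← this]; exact hc' z hz
  by_contra hne
  have hyr' : Commute y r' := hc' y hy'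
  have hr'W : r' ∈ pairSet D d₀ j g x y := ⟨hr'.1, hr'.1.1.1.1.1, hne, hyr'⟩
  have hr'r : r' ≠ r := hr'.2.2.1
  obtain ⟨s, hs, hsc, hs2, -, -⟩ := exists_radical K hx hy hyx
  obtain ⟨w, hw, hwr⟩ := hs2 r' hr'W (by rw [← K.rad_unique hx hy hyx hr hs hc hsc]; exact hr'r)
  have hwne : w ≠ r := fun e => hwr (e ▸ hc r' hr'W)
  exact hwr (hc' w ⟨hw.1, hw.1.1.1.1.1, hwne, (hc w hw).symm⟩).symm

/-- Commuting with two members of a triple is commuting with the third. -/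
theorem triple_comm {x y r z : G} (h : K.IsTriple x y r) (hz : z ∈ midSet D d₀ j g) (h1 : Commute z x)
    (h2 : Commute z y) : Commute z r := by
  obtain ⟨-, -, -, hr, hc⟩ := h
  by_cases hzx : z = x
  · subst hzx; exact hr.1.2.2.2
  by_cases hzy : z = y
  · subst hzy; exact hr.2.2.2
  exact hc z ⟨⟨hz, hz.1.1.1, hzx, h1.symm⟩, hz.1.1.1, hzy, h2.symm⟩

/-- Outside the radical some member does not commute. -/
theorem triple_exists {x y r z : G} (h : K.IsTriple x y r) (hz : z ∈ pairSet D d₀ j g x y) (hzr : z ≠ r) :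
    ∃ w ∈ pairSet D d₀ j g x y, w ≠ r ∧ ¬ Commute z w := by
  obtain ⟨hx, hy, hyx, hr, hc⟩ := h
  obtain ⟨s, hs, hsc, hs2, -, -⟩ := exists_radical K hx hy hyx
  obtain ⟨w, hw, hzw⟩ := hs2 z hz (by rw [← K.rad_unique hx hy hyx hr hs hc hsc]; exact hzr)
  exact ⟨w, hw, fun e => hzw (e ▸ hc z hz), hzw⟩

theorem triple_nontriv {x y r : G} (h : K.IsTriple x y r) : ∃ z ∈ pairSet D d₀ j g x y, z ≠ r := by
  obtain ⟨hx, hy, hyx, hr, hc⟩ := h
  obtain ⟨s, hs, hsc, -, hs3, -⟩ := exists_radical K hx hy hyx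
  rwa [K.rad_unique hx hy hyx hr hs hc hsc]

/-- Members of the set of a pair on a totally isotropic line through the radical. -/
theorem triple_line {x y r z w u : G} (h : K.IsTriple x y r) (hz : z ∈ pairSet D d₀ j g x y)
    (hw : w ∈ pairSet D d₀ j g x y) (hu : u ∈ pairSet D d₀ j g x y) (hzr : z ≠ r) (hzw : Commute z w)
    (huz : Commute u z) : Commute u w := by
  obtain ⟨hx, hy, hyx, hr, hc⟩ := h
  obtain ⟨s, hs, hsc, -, -, hs4⟩ := exists_radical K hx hy hyx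
  exact hs4 z hz w hw (by rw [← K.rad_unique hx hy hyx hr hs hc hsc]; exact hzr) hzw u hu huz

end Corner

end CfsgLib.M23
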