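import Cfsg.Agent.Lib.FischerPair.M23Frame.Gram

/-!
# The finite computations for two configurations of seven vectors of equal norm
-/

set_option autoImplicit false
set_option maxRecDepth 100000

namespace CfsgLib.FischerPair

open Cfsg CfsgLib.Classical CfsgLib.SporMisc
open Matrix

local notation "V7" => Fin 7 → ZMod 3
local notation "M7" => Matrix (Fin 7) (Fin 7) (ZMod 3)

/-- The joined pairs of the first configuration `a c d e h i v`. -/
def sevenEdge (i j : Fin 7) : Bool :=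
  (i.val, j.val) ∈ [(1, 2), (2, 1), (2, 3), (3, 2), (2, 4), (4, 2), (4, 5), (5, 4), (6, 2), (2, 6), (6, 4), (4, 6)]

/-- The joined pairs of the second configuration `a b c d e h i`. -/
def e7Edge (i j : Fin 7) : Bool :=
  (i.val, j.val) ∈ [(0, 1), (1, 0), (1, 2), (2, 1), (2, 3), (3, 2), (3, 4), (4, 3), (3, 5), (5, 3), (5, 6), (6, 5)]

/-- The inner products of the first configuration, up to the last one. -/
def sevenGram (e : ZMod 3) : M7 :=
  !![2, 0, 0, 0, 0, 0, 0; 0, 2, 2, 0, 0, 0, 0; 0, 2, 2, 2, 2, 0, 1; 0, 0, 2, 2, 0, 0, 0;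
     0, 0, 2, 0, 2, 2, e; 0, 0, 0, 0, 2, 2, 0; 0, 0, 1, 0, e, 0, 2]

/-- The inverse of the first configuration. -/
def sevenInv : M7 :=
  !![2, 0, 0, 0, 0, 0, 0; 0, 0, 2, 1, 1, 2, 1; 0, 2, 1, 2, 2, 1, 2; 0, 1, 2, 0, 1, 2, 1;
     0, 1, 2, 1, 2, 1, 0; 0, 2, 1, 2, 1, 1, 0; 0, 1, 2, 1, 0, 0, 1]

/-- The inner products of the second configuration. -/
def e7Gram : M7 :=
  !![2, 2, 0, 0, 0, 0, 0; 2, 2, 2, 0, 0, 0, 0; 0, 2, 2, 2, 0, 0, 0; 0, 0, 2, 2, 2, 2, 0;
     0, 0, 0, 2, 2, 0, 0; 0, 0, 0, 2, 0, 2, 2; 0, 0, 0, 0, 0, 2, 2]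

/-- The inverse of the second configuration. -/
def e7Inv : M7 :=
  !![0, 2, 1, 0, 0, 2, 1; 2, 1, 2, 0, 0, 1, 2; 1, 2, 0, 0, 0, 0, 0; 0, 0, 0, 0, 0, 2, 1;
     0, 0, 0, 0, 2, 1, 2; 2, 1, 0, 2, 1, 0, 0; 1, 2, 0, 1, 2, 0, 2]

theorem sevenInv_mul : sevenInv * sevenGram 2 = 1 := by decide +kernel

theorem e7Inv_mul : e7Inv * e7Gram = 1 := by decide +kernel

theorem sevenGram_det : (sevenGram 1).det = 1 := by
  set P : M7 := !![1, 0, 0, 0, 0, 0, 0; 0, 1, 0, 2, 2, 2, 2; 0, 0, 0, 1, 1, 1, 1; 0, 0, 1, 2, 2, 2, 2; 0, 0, 0, 0, 1, 1, 2; 0, 0, 0, 0, 0, 1, 1; 0, 0, 0, 0, 0, 0, 1] with hP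
  set Pi : M7 := !![1, 0, 0, 0, 0, 0, 0; 0, 1, 1, 0, 0, 0, 0; 0, 0, 1, 1, 0, 0, 0; 0, 0, 1, 0, 2, 0, 1; 0, 0, 0, 0, 1, 2, 2; 0, 0, 0, 0, 0, 1, 2; 0, 0, 0, 0, 0, 0, 1] with hPi
  have h1 : Pi * P = 1 := by rw [hP, hPi]; decide +kernel
  have h2 : P.transpose * sevenGram 1 * P = Matrix.diagonal ![2, 2, 2, 1, 1, 1, 2] := by
    rw [hP]; decide +kernel
  have hp : P.det ≠ 0 := fun h => by
    have := congrArg Matrix.det h1
    rw [det_mul, h, mul_zero, det_one] at this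
    exact zero_ne_one this
  have h := congrArg Matrix.det h2
  rw [det_mul, det_mul, det_transpose, det_diagonal] at h
  have hq : P.det * P.det = 1 := (show ∀ a : ZMod 3, a ≠ 0 → a * a = 1 by decide) _ hp
  rw [show P.det * (sevenGram 1).det * P.det = (sevenGram 1).det by linear_combination (sevenGram 1).det * hq] at h
  rw [h]
  decide

/-- The inner products of a family with the first pattern of orthogonality. -/
def sevenPat (x y z w q p : ZMod 3) : M7 :=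
  !![2, 0, 0, 0, 0, 0, 0; 0, 2, x, 0, 0, 0, 0; 0, x, 2, y, z, 0, q; 0, 0, y, 2, 0, 0, 0;
     0, 0, z, 0, 2, w, p; 0, 0, 0, 0, w, 2, 0; 0, 0, q, 0, p, 0, 2]

/-- The signs for the first configuration. -/
def sevenSign (x y z w q : ZMod 3) : Fin 7 → ZMod 3 := ![1, -x, 1, -y, -z, z * w, q]

theorem sevenPat_norm : ∀ x y z w q p : ZMod 3, x * y * z * w * q * p ≠ 0 →
    (∀ i, sevenSign x y z w q i ≠ 0) ∧
    ((∀ k : Fin 7 × Fin 7, sevenSign x y z w q k.1 * sevenSign x y z w q k.2 * sevenPat x y z w q p k.1 k.2 =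
        sevenGram 1 k.1 k.2) ∨
      ∀ k : Fin 7 × Fin 7, sevenSign x y z w q k.1 * sevenSign x y z w q k.2 * sevenPat x y z w q p k.1 k.2 =
        sevenGram 2 k.1 k.2) := by
  decide +kernel

variable {Q : QuadraticForm (ZMod 3) V7} {c : ZMod 3}

/-- Signs making a family with the first pattern of orthogonality standard. -/
theorem exists_seven_signs (hc : c ≠ 0) (hdet : polarGramDet (⇑Q) = -c) (v : Fin 7 → V7)
    (hn : ∀ i, Q (v i) = c) (hpat : ∀ i j, i ≠ j → (inp Q c (v i) (v j) = 0 ↔ sevenEdge i j = false)) :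
    ∃ s : Fin 7 → ZMod 3, (∀ i, s i ≠ 0) ∧
      ∀ i j, inp Q c (s i • v i) (s j • v j) = sevenGram 2 i j := by
  set t : Fin 7 → Fin 7 → ZMod 3 := fun i j => inp Q c (v i) (v j) with ht
  have t2 : ∀ i, t i i = 2 := fun i => inp_self Q c hc (hn i)
  have tz : ∀ i j, i ≠ j → sevenEdge i j = false → t i j = 0 := fun i j h h' => (hpat i j h).2 h'
  have tn : ∀ i j, i ≠ j → sevenEdge i j = true → t i j ≠ 0 := fun i j h h' e => by
    rw [(hpat i j h).1 e] at h'; exact Bool.false_ne_true h'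
  have tc : ∀ i j, t i j = t j i := fun i j => inp_comm Q c _ _
  have hT : ∀ i j, t i j = sevenPat (t 1 2) (t 3 2) (t 4 2) (t 4 5) (t 6 2) (t 4 6) i j := by
    intro i j
    fin_cases i <;> fin_cases j <;>
      first
        | exact t2 _
        | exact tz _ _ (by decide) (by decide)
        | exact rfl
        | exact tc _ _
  obtain ⟨hs, h | h⟩ := sevenPat_norm _ _ _ _ _ _ (mul_ne_zero (mul_ne_zero (mul_ne_zero (mul_ne_zero (mul_ne_zero
    (tn 1 2 (by decide) (by decide)) (tn 3 2 (by decide) (by decide))) (tn 4 2 (by decide) (by decide)))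
    (tn 4 5 (by decide) (by decide))) (tn 6 2 (by decide) (by decide))) (tn 4 6 (by decide) (by decide)))
  · refine absurd sevenGram_det (det_ne_one Q c (fun i => sevenSign (t 1 2) (t 3 2) (t 4 2) (t 4 5) (t 6 2) i • v i) _ (fun i j => ?_) hc hdet)
    rw [inp_smul]
    exact (congrArg _ (hT i j)).trans (h (i, j))
  · refine ⟨_, hs, fun i j => ?_⟩
    rw [inp_smul]
    exact (congrArg _ (hT i j)).trans (h (i, j))

end CfsgLib.FischerPair
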