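import Cfsg.Agent.Lib.FischerPair.M23

/-!
# Groups of type `M(23)`: the members commuting with a commuting pair as isotropic points
-/

set_option autoImplicit false

namespace CfsgLib.M23

open CfsgLib.ThreeTransp CfsgLib.SporMisc CfsgLib.ThreeTransp.Factor CfsgLib.FischerPair
open CfsgLib.U6 (IsPt)
open CfsgLib.PSUAut (Isot)

variable {G : Type*} [Group G] [Finite G] {D : Set G}

/-- The common neighbours of commuting `x` and `y` as isotropic points of a six-dimensional unitary space. -/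
structure View (D : Set G) (x y : G) where
  F : Type
  [fld : Field F]
  [fin : Fintype F]
  hF : Fintype.card F = 2 ^ 2
  vec : G → Fin 6 → F
  isot : ∀ {e : G}, e ∈ link D x ∩ link D y → Isot 2 (vec e)
  comm : ∀ {e f : G}, e ∈ link D x ∩ link D y → f ∈ link D x ∩ link D y →
    (Commute e f ↔ Cfsg.hermForm 6 F 2 (vec e) (vec f) = 0)
  surj : ∀ {v : Fin 6 → F}, Isot 2 v → ∃ e ∈ link D x ∩ link D y, ∃ r : F, r ≠ 0 ∧ vec e = r • v
  inj : ∀ {e f : G}, e ∈ link D x ∩ link D y → f ∈ link D x ∩ link D y → ∀ {r : F}, vec f = r • vec e → e = f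

attribute [instance] View.fld View.fin

theorem exists_view (S : Setup D) {x y : G} (hx : x ∈ D) (hy : y ∈ link D x) : Nonempty (View D x y) := by
  classical
  have T := S.link_setup hx
  obtain ⟨F, _, _, hF, hM⟩ := T.exists_models
  obtain ⟨X⟩ := hM (pj hy) (pj_mem hy)
  have hin : ∀ {e : G} (he : e ∈ link D x ∩ link D y), pj he.1 ∈ link (E D x) (pj hy) :=
    fun he => (S.pj_link hx hy he.1).2 he.2
  have hpt : ∀ e, e ∈ link D x ∩ link D y → ∃ v : Fin 6 → F,
      ∀ he : e ∈ link D x ∩ link D y, IsPt (X.img (hin he)) v := fun e he => by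
    obtain ⟨v, hv⟩ := X.exists_pt_of_link T hF (pj_mem hy) (hin he)
    exact ⟨v, fun _ => hv⟩
  choose v hv using hpt
  let vec : G → Fin 6 → F := fun e => if he : e ∈ link D x ∩ link D y then v e he else 0
  have hvec : ∀ {e : G} (he : e ∈ link D x ∩ link D y), IsPt (X.img (hin he)) (vec e) := fun {e} he => by
    rw [show vec e = v e he from dif_pos he]
    exact hv e he he
  refine ⟨⟨F, hF, vec, fun {e} he => (hvec he).1, fun {e f} he hf => ?_, fun {w} hw => ?_, fun {e f} he hf {r} h => ?_⟩⟩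
  · exact (S.pj_comm hx he.1 hf.1).symm.trans (X.comm_iff T hF (pj_mem hy) (hin he) (hin hf) (hvec he) (hvec hf))
  · obtain ⟨p, hp⟩ := U6.exists_pt hF hw
    obtain ⟨q, lq, rfl⟩ := X.exists_link_of_pt T hF (pj_mem hy) hp
    obtain ⟨e, le, rfl⟩ := Setup.pj_surj lq.1
    have he : e ∈ link D x ∩ link D y := ⟨le, (S.pj_link hx hy le).1 lq⟩
    obtain ⟨r, hr, hrw⟩ := IsPt.span_eq hF hp (hvec he)
    exact ⟨e, he, r, hr, hrw⟩
  · have := X.img_inj T (pj_mem hy) _ _ (IsPt.eq_of_smul hF (hvec he) (hvec hf) h)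
    exact S.pj_inj hx he.1 hf.1 this

end CfsgLib.M23
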